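import Cfsg.Agent.Suz.Partition

/-!
Products of two conjugates inside the unipotent subgroup of a Suzuki group.

The additive subgroup `{w ^ s + w}` has index two and is moved by every scalar other than one, so
the second coordinate of a product of two conjugates takes every value.
-/

set_option autoImplicit false
set_option linter.unusedSectionVars false

namespace Cfsg.Lib.Suz.Cover

variable {F : Type*} [Field F] [Fintype F] {m : ℕ} (Q : Par F m)

/-- The absolute trace, as a sum of iterated squares. -/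
def lin (m : ℕ) (z : F) : F := ∑ i ∈ Finset.range (2 * m + 1), z ^ 2 ^ i

include Q

theorem lin_add (x y : F) : lin m (x + y) = lin m x + lin m y := by
  have := charP Q
  have : Fact (Nat.Prime 2) := ⟨Nat.prime_two⟩
  rw [lin, lin, lin, ← Finset.sum_add_distrib]
  exact Finset.sum_congr rfl fun i _ => add_pow_char_pow x y 2 i

theorem lin_sq (z : F) : lin m (z ^ 2) = lin m z := by
  rw [lin, lin, Finset.sum_congr rfl fun i _ =>
    show (z ^ 2) ^ 2 ^ i = z ^ 2 ^ (i + 1) by rw [← pow_mul, pow_succ']]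
  have h1 := Finset.sum_range_succ (fun i => z ^ 2 ^ i) (2 * m + 1)
  have h2 := Finset.sum_range_succ' (fun i => z ^ 2 ^ i) (2 * m + 1)
  rw [h2, pow_q Q z, pow_zero, pow_one] at h1
  exact add_right_cancel h1

theorem lin_frob (z : F) (i : ℕ) : lin m (z ^ 2 ^ i) = lin m z := by
  induction i with
  | zero => rw [pow_zero, pow_one]
  | succ i ih => rw [pow_succ, pow_mul, lin_sq Q, ih]

theorem lin_zero : lin m (0 : F) = 0 :=
  Finset.sum_eq_zero fun _ _ => zero_pow (pow_ne_zero _ two_ne_zero)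

theorem lin_one : lin m (1 : F) = 1 := by
  have := charP Q
  rw [lin, Finset.sum_congr rfl fun i _ => one_pow _, Finset.sum_const, Finset.card_range, nsmul_one]
  push_cast
  rw [show (2 : F) = 0 from CharP.cast_eq_zero F 2]
  ring

theorem lin_cases (z : F) : lin m z = 0 ∨ lin m z = 1 := by
  have := charP Q
  have : Fact (Nat.Prime 2) := ⟨Nat.prime_two⟩
  have h : lin m z ^ 2 = lin m (z ^ 2) := by
    rw [lin, sum_pow_char]
    exact Finset.sum_congr rfl fun i _ => by rw [← pow_mul, ← pow_mul, mul_comm]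
  rw [lin_sq Q, sq] at h
  rcases eq_or_ne (lin m z) 0 with h0 | h0
  · exact Or.inl h0
  · exact Or.inr ((mul_eq_left₀ h0).1 h)

/-- The kernel of the trace is the image of `w ↦ w ^ s + w`. -/
theorem exists_eq_add {z : F} (hz : lin m z = 0) : ∃ w : F, w ^ (2 ^ (m + 1)) + w = z := by
  classical
  let f : F →+ F :=
    { toFun := fun w => w ^ (2 ^ (m + 1)) + w
      map_zero' := by simp [zero_pow (pow_ne_zero (m + 1) two_ne_zero)]
      map_add' := fun a b => by rw [add_pow_s Q]; ring }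
  have hker : ∀ w, f w = 0 → w = 0 ∨ w = 1 := fun w hw =>
    s_fixed Q ((eq_neg_of_add_eq_zero_left hw).trans (neg_eq Q w))
  have hR : ∀ y ∈ f.range, lin m y = 0 := by
    rintro _ ⟨w, rfl⟩
    show lin m (w ^ (2 ^ (m + 1)) + w) = 0
    rw [lin_add Q, lin_frob Q, add_self Q]
  have h1 : (1 : F) ∉ f.range := fun h => by
    have h0 := hR 1 h
    rw [lin_one Q] at h0
    exact one_ne_zero h0
  have hidx : f.range.index = 2 := by
    have hk : Nat.card f.ker ≤ 2 := by
      rw [Nat.card_eq_fintype_card, Fintype.card_subtype]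
      exact (Finset.card_le_card (t := {0, 1}) fun w hw => by
        simpa using hker w (AddMonoidHom.mem_ker.1 (Finset.mem_filter.1 hw).2)).trans Finset.card_le_two
    have e1 := f.range.card_mul_index
    have e2 : Nat.card f.ker * f.ker.index = Nat.card F := f.ker.card_mul_index
    rw [AddSubgroup.index_ker] at e2
    have hpos : 0 < Nat.card f.range := Nat.card_pos
    have h2 : f.range.index ≠ 1 := fun h => h1 (by rw [AddSubgroup.index_eq_one.1 h]; trivial)
    have h0 : f.range.index ≠ 0 := AddSubgroup.index_ne_zero_of_finite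
    have : Nat.card f.range * f.range.index ≤ Nat.card f.range * 2 := by
      rw [e1, ← e2, mul_comm (Nat.card f.ker)]
      exact Nat.mul_le_mul_left _ hk
    have := Nat.le_of_mul_le_mul_left this hpos
    omega
  suffices h : z ∈ f.range by
    obtain ⟨w, hw⟩ := h
    exact ⟨w, hw⟩
  by_contra hn
  have h2 : z + 1 ∈ f.range := by
    rw [AddSubgroup.add_mem_iff_of_index_two hidx]
    exact iff_of_false hn h1
  have h3 := hR _ h2
  rw [lin_add Q, hz, lin_one Q, zero_add] at h3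
  exact one_ne_zero h3

/-- A scalar preserving the kernel of the trace is zero or one. -/
theorem scalar_cases {γ : F} (h : ∀ z, lin m z = 0 → lin m (γ * z) = 0) : γ = 0 ∨ γ = 1 := by
  have key : ∀ z, lin m (γ * z) = lin m γ * lin m z := by
    intro z
    rcases lin_cases Q z with hz | hz
    · rw [hz, mul_zero, h z hz]
    · have h1 := h (z + 1) (by rw [lin_add Q, hz, lin_one Q, add_self Q])
      rw [mul_add, mul_one, lin_add Q] at h1
      rw [hz, mul_one]
      exact (eq_neg_of_add_eq_zero_left h1).trans (neg_eq Q _)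
  have hinj : Function.Injective fun i : Fin (2 * m + 1) => 2 ^ (i : ℕ) :=
    fun i j hij => Fin.ext (Nat.pow_right_injective le_rfl hij)
  have hc := coeff_zero_of_eval (fun i : Fin (2 * m + 1) => γ ^ 2 ^ (i : ℕ) - lin m γ) (fun i => 2 ^ (i : ℕ))
    hinj (fun i => by rw [Q.hF]; exact Nat.pow_lt_pow_right one_lt_two i.2) (fun z => by
      have hk := key z
      have e1 : ∀ y : F, lin m y = ∑ i ∈ Finset.range (2 * m + 1), y ^ 2 ^ i := fun y => rfl
      rw [e1 (γ * z), e1 z] at hk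
      rw [Fin.sum_univ_eq_sum_range (fun i => (γ ^ 2 ^ i - lin m γ) * z ^ 2 ^ i),
        Finset.sum_congr rfl fun i _ => sub_mul (γ ^ 2 ^ i) (lin m γ) (z ^ 2 ^ i), Finset.sum_sub_distrib,
        ← Finset.mul_sum, ← hk, sub_eq_zero]
      exact Finset.sum_congr rfl fun i _ => (mul_pow γ z _).symm) ⟨0, Nat.succ_pos _⟩
  simp only [pow_zero, pow_one, sub_eq_zero] at hc
  rw [hc]
  exact lin_cases Q γ

theorem exists_split {γ : F} (hγ0 : γ ≠ 0) (hγ1 : γ ≠ 1) (z : F) :
    ∃ w w' : F, γ * (w ^ (2 ^ (m + 1)) + w) + (w' ^ (2 ^ (m + 1)) + w') = z := by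
  obtain ⟨h0, hh0, hne⟩ : ∃ h0, lin m h0 = 0 ∧ lin m (γ * h0) ≠ 0 := by
    by_contra hc
    push Not at hc
    rcases scalar_cases Q hc with h | h
    · exact hγ0 h
    · exact hγ1 h
  have h1 : lin m (γ * h0) = 1 := (lin_cases Q _).resolve_left hne
  obtain ⟨v, hv, hlin⟩ : ∃ v, lin m v = 0 ∧ lin m (z + γ * v) = 0 := by
    rcases lin_cases Q z with hz | hz
    · exact ⟨0, lin_zero Q, by rw [mul_zero, add_zero, hz]⟩
    · exact ⟨h0, hh0, by rw [lin_add Q, hz, h1, add_self Q]⟩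
  obtain ⟨w, hw⟩ := exists_eq_add Q hv
  obtain ⟨w', hw'⟩ := exists_eq_add Q hlin
  refine ⟨w, w', ?_⟩
  rw [hw, hw']
  linear_combination add_self Q (γ * v)

theorem hI_conj_uu (k : Fˣ) (a b : F) :
    hI Q k * uu Q a b * (hI Q k)⁻¹ = uu Q ((k : F) * a) ((k : F) ^ (2 ^ (m + 1) + 1) * b) :=
  Subtype.ext (H_conj_T Q k a b)

theorem uu_conj_uu (a b c : F) :
    uu Q c 0 * uu Q a b * (uu Q c 0)⁻¹ = uu Q a (b + c ^ (2 ^ (m + 1)) * a + a ^ (2 ^ (m + 1)) * c) := by
  rw [mul_inv_eq_iff_eq_mul, uu_mul, uu_mul]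
  congr 1
  · ring
  · linear_combination -add_self Q (a ^ (2 ^ (m + 1)) * c)

/-- Conjugates of `uu 1 b` in the unipotent subgroup. -/
theorem exists_conj_uu (b : F) {l : F} (hl : l ≠ 0) (w : F) : ∃ c : Cfsg.Sz F m,
    c * uu Q 1 b * c⁻¹ = uu Q l (l ^ (2 ^ (m + 1) + 1) * (b + (w ^ (2 ^ (m + 1)) + w))) := by
  refine ⟨hI Q (Units.mk0 l hl) * uu Q w 0, ?_⟩
  rw [show hI Q (Units.mk0 l hl) * uu Q w 0 * uu Q 1 b * (hI Q (Units.mk0 l hl) * uu Q w 0)⁻¹ =
    hI Q (Units.mk0 l hl) * (uu Q w 0 * uu Q 1 b * (uu Q w 0)⁻¹) * (hI Q (Units.mk0 l hl))⁻¹ by group,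
    uu_conj_uu, hI_conj_uu, Units.val_mk0, mul_one, one_pow, one_mul, mul_one, add_assoc]

/-- The order-four classes meeting the unipotent subgroup. -/
theorem normal_form {a : F} (ha : a ≠ 0) (b : F) :
    ∃ (c : Cfsg.Sz F m) (b' : F), (b' = 0 ∨ b' = 1) ∧ c * uu Q a b * c⁻¹ = uu Q 1 b' := by
  set b1 := (a⁻¹) ^ (2 ^ (m + 1) + 1) * b
  have h1 : hI Q (Units.mk0 a⁻¹ (inv_ne_zero ha)) * uu Q a b * (hI Q (Units.mk0 a⁻¹ (inv_ne_zero ha)))⁻¹ =
      uu Q 1 b1 := by
    rw [hI_conj_uu, Units.val_mk0, inv_mul_cancel₀ ha]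
  obtain ⟨e, he, hlin⟩ : ∃ e : F, (e = 0 ∨ e = 1) ∧ lin m (b1 + e) = 0 := by
    rcases lin_cases Q b1 with h | h
    · exact ⟨0, Or.inl rfl, by rw [add_zero, h]⟩
    · exact ⟨1, Or.inr rfl, by rw [lin_add Q, h, lin_one Q, add_self Q]⟩
  obtain ⟨w, hw⟩ := exists_eq_add Q hlin
  refine ⟨uu Q w 0 * hI Q (Units.mk0 a⁻¹ (inv_ne_zero ha)), e, he, ?_⟩
  rw [show ∀ c d g : Cfsg.Sz F m, c * d * g * (c * d)⁻¹ = c * (d * g * d⁻¹) * c⁻¹ from fun c d g => by group,
    h1, uu_conj_uu]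
  congr 1
  rw [one_pow, one_mul, mul_one, add_assoc, hw]
  linear_combination add_self Q b1

/-- All involutions of the unipotent subgroup are conjugate. -/
theorem conj_involution {b b' : F} (hb : b ≠ 0) (hb' : b' ≠ 0) :
    ∃ c : Cfsg.Sz F m, c * uu Q 0 b * c⁻¹ = uu Q 0 b' := by
  obtain ⟨k, hk⟩ := exists_s1_root Q (Units.mk0 (b' / b) (div_ne_zero hb' hb))
  refine ⟨hI Q k, ?_⟩
  have hk' : (k : F) ^ (2 ^ (m + 1) + 1) = b' / b := by
    rw [← Units.val_pow_eq_pow_val, hk, Units.val_mk0]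
  rw [hI_conj_uu, mul_zero, hk', div_mul_cancel₀ _ hb]

/-- Products of two conjugates of an element of order four inside the unipotent subgroup. -/
theorem cover_unipotent {a : F} (ha : a ≠ 0) (b : F) {g : Cfsg.Sz F m} (hg : g ∈ uSub Q) (hg1 : g ≠ 1) :
    ∃ u v : Cfsg.Sz F m, g = (u * uu Q a b * u⁻¹) * (v * uu Q a b * v⁻¹) := by
  obtain ⟨c0, e, -, hc0⟩ := normal_form Q ha b
  have hx : uu Q a b = c0⁻¹ * uu Q 1 e * c0 := by rw [← hc0]; group
  suffices h : ∃ u v : Cfsg.Sz F m, g = (u * uu Q 1 e * u⁻¹) * (v * uu Q 1 e * v⁻¹) by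
    obtain ⟨u, v, h⟩ := h
    exact ⟨u * c0, v * c0, by rw [h, hx]; group⟩
  obtain ⟨a0, b0, rfl⟩ := exists_uu Q hg
  rcases eq_or_ne a0 0 with rfl | ha0
  · have hb0 : b0 ≠ 0 := fun h => hg1 (by rw [h, uu_zero])
    obtain ⟨c, hc⟩ := conj_involution Q (one_ne_zero (α := F)) hb0
    refine ⟨c, c, ?_⟩
    rw [show c * uu Q 1 e * c⁻¹ * (c * uu Q 1 e * c⁻¹) = c * uu Q 1 e ^ 2 * c⁻¹ by rw [pow_two]; group, uu_sq, one_pow, hc]
  · obtain ⟨cg, b1, -, hcg⟩ := normal_form Q ha0 b0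
    suffices h : ∃ u v : Cfsg.Sz F m, uu Q 1 b1 = (u * uu Q 1 e * u⁻¹) * (v * uu Q 1 e * v⁻¹) by
      obtain ⟨u, v, h⟩ := h
      refine ⟨cg⁻¹ * u, cg⁻¹ * v, ?_⟩
      rw [show uu Q a0 b0 = cg⁻¹ * (cg * uu Q a0 b0 * cg⁻¹) * cg by group, hcg, h]
      group
    classical
    obtain ⟨l, hl⟩ : ∃ l : F, l ∉ ({0, 1} : Finset F) := by
      by_contra h
      push Not at h
      have := (Finset.card_le_card fun x (_ : x ∈ Finset.univ) => h x).trans Finset.card_le_two
      rw [Finset.card_univ] at this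
      have := (exp_lt Q).1
      have := (exp_lt Q).2
      omega
    simp only [Finset.mem_insert, Finset.mem_singleton, not_or] at hl
    set μ := 1 + l with hμdef
    have hμ : μ ≠ 0 := fun h => hl.2 ((eq_neg_of_add_eq_zero_right h).trans (neg_eq Q 1))
    set L := l ^ (2 ^ (m + 1) + 1) with hL
    set M := μ ^ (2 ^ (m + 1) + 1) with hMdef
    have hL0 : L ≠ 0 := pow_ne_zero _ hl.1
    have hM0 : M ≠ 0 := pow_ne_zero _ hμ
    have hne : L / M ≠ 1 := by
      intro h
      have h' : (Units.mk0 (l / μ) (div_ne_zero hl.1 hμ) : Fˣ) = 1 :=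
        units_s1 Q (by rw [Units.val_mk0, div_pow, ← hL, ← hMdef, h])
      have h'' := congrArg Units.val h'
      rw [Units.val_mk0, Units.val_one, div_eq_one_iff_eq hμ, hμdef] at h''
      exact one_ne_zero (α := F) (by linear_combination -h'')
    obtain ⟨w, w', hww⟩ := exists_split Q (div_ne_zero hL0 hM0) hne
      ((b1 + L * e + M * e + l ^ (2 ^ (m + 1)) * μ) / M)
    obtain ⟨u, hu⟩ := exists_conj_uu Q e hl.1 w
    obtain ⟨v, hv⟩ := exists_conj_uu Q e hμ w'
    refine ⟨u, v, ?_⟩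
    rw [hu, hv, uu_mul, ← hL, ← hMdef]
    congr 1
    · linear_combination -add_self Q l + hμdef * (-1 : F)
    · field_simp at hww
      linear_combination -hww - add_self Q (L * e + M * e + l ^ (2 ^ (m + 1)) * μ)

end Cfsg.Lib.Suz.Cover
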