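import Cfsg.Agent.Chars.ClassEigen

/-! A character bound under which an element is a product of two conjugates of another. -/

set_option autoImplicit false
set_option linter.unusedSectionVars false

open scoped ComplexConjugate

namespace Cfsg.Lib.Suz.Cover

variable {G : Type*} [Group G] [Fintype G]

open Cfsg.Lib.Chars in
/-- If the non-principal terms of the class product coefficient are small then `g` is a product
of two conjugates of `x`. -/
theorem exists_two_conj (x g : G) [DecidableEq (Cfsg.IrrCharacter G)]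
    (h : ∑ χ ∈ (Finset.univ : Finset (Cfsg.IrrCharacter G)).erase (principal G),
      Complex.normSq ((χ : G → ℂ) x) * ‖(χ : G → ℂ) g‖ / (deg (χ : G → ℂ) : ℝ) < 1) :
    ∃ u v : G, g = (u * x * u⁻¹) * (v * x * v⁻¹) := by
  classical
  by_contra hno
  push Not at hno
  have hinv : ∀ (χ : Cfsg.IrrCharacter G) a, (χ : G → ℂ) a⁻¹ = conj ((χ : G → ℂ) a) := by
    intro χ a
    obtain ⟨n, ρ, -, he⟩ := χ.2
    rw [← he, character_inv]
  set C := Finset.univ.filter (fun y => IsConj x⁻¹ y) with hC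
  have h0 : ∀ y ∈ C, ∑ χ : Cfsg.IrrCharacter G, (χ : G → ℂ) (y * g) * conj ((χ : G → ℂ) x) = 0 := by
    intro y hy
    rw [second_orthogonality, if_neg]
    intro hc
    obtain ⟨u, hu⟩ := isConj_iff.1 (Finset.mem_filter.1 hy).2
    obtain ⟨v, hv⟩ := isConj_iff.1 hc.symm
    refine hno u v ?_
    rw [hv, ← hu]
    group
  have hterm : ∀ χ : Cfsg.IrrCharacter G, ∑ y ∈ C, (χ : G → ℂ) (y * g) * conj ((χ : G → ℂ) x) =
      (Nat.card {y : G // IsConj x⁻¹ y} : ℂ) *
        (conj ((χ : G → ℂ) x) ^ 2 * (χ : G → ℂ) g / (deg (χ : G → ℂ) : ℂ)) := by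
    intro χ
    obtain ⟨n, ρ, hirr, he⟩ := χ.2
    have hdeg : deg (χ : G → ℂ) = n := by rw [← he, deg_character, Module.finrank_fin_fun]
    have hn : (n : ℂ) ≠ 0 := by
      rw [← hdeg, Nat.cast_ne_zero]; exact (deg_irr_pos χ).ne'
    have h1 := sum_conjClass_character_mul ρ x⁻¹ g
    rw [he, hinv] at h1
    rw [← Finset.sum_mul, hdeg, ← mul_left_inj' hn, mul_assoc, mul_comm (conj _) (n : ℂ),
      ← mul_assoc (∑ y ∈ C, (χ : G → ℂ) (y * g)), h1]
    field_simp
  have hsum : ∑ χ : Cfsg.IrrCharacter G,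
      conj ((χ : G → ℂ) x) ^ 2 * (χ : G → ℂ) g / (deg (χ : G → ℂ) : ℂ) = 0 := by
    have h2 := Finset.sum_congr rfl fun χ (_ : χ ∈ (Finset.univ : Finset (Cfsg.IrrCharacter G))) => hterm χ
    rw [Finset.sum_comm, Finset.sum_eq_zero h0, ← Finset.mul_sum] at h2
    exact (mul_eq_zero.1 h2.symm).resolve_left (by exact_mod_cast (card_isConj_pos x⁻¹).ne')
  have hone : conj ((principal G : G → ℂ) x) ^ 2 * (principal G : G → ℂ) g /
      (deg (principal G : G → ℂ) : ℂ) = 1 := by
    rw [← irr_apply_one_eq_deg]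
    simp [principal]
  rw [← Finset.add_sum_erase _ _ (Finset.mem_univ (principal G)), hone, add_eq_zero_iff_neg_eq] at hsum
  refine h.not_ge ?_
  have h3 := norm_sum_le ((Finset.univ : Finset (Cfsg.IrrCharacter G)).erase (principal G))
    fun χ : Cfsg.IrrCharacter G => conj ((χ : G → ℂ) x) ^ 2 * (χ : G → ℂ) g / (deg (χ : G → ℂ) : ℂ)
  rw [← hsum, norm_neg, norm_one] at h3
  refine h3.trans (le_of_eq (Finset.sum_congr rfl fun χ _ => ?_))
  rw [norm_div, norm_mul, norm_pow, Complex.norm_conj, Complex.norm_natCast, Complex.normSq_eq_norm_sq]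

end Cfsg.Lib.Suz.Cover
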