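import Cfsg.Agent.Suz.Cover.Data
import Cfsg.Agent.Suz.Cover.Criterion

/-! The character bounds: products of two conjugates in the Suzuki groups. -/

set_option autoImplicit false
set_option linter.unusedSectionVars false
set_option linter.style.haveILetI false

open scoped ComplexConjugate

namespace Cfsg.Lib.Suz.Cover

section Real

theorem amgm_term (Q' a w n : ℝ) (hQ : 0 < Q') (h : w ^ 2 ≤ n) :
    a * w ≤ (Q' * a ^ 2 + n / Q') / 2 := by
  have h1 : 0 ≤ (Q' * a - w) ^ 2 / Q' := div_nonneg (sq_nonneg _) hQ.le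
  have h2 : (Q' * a - w) ^ 2 / Q' = Q' * a ^ 2 - 2 * (a * w) + w ^ 2 / Q' := by field_simp; ring
  have h3 : w ^ 2 / Q' ≤ n / Q' := (div_le_div_iff_of_pos_right hQ).2 h
  linarith

theorem num_free {K q : ℝ} (hK : 4 ≤ K) (hq : q = 2 * (K * K)) :
    1 / q ^ 2 + 4 / (q - 1) + 4 * K / (q - 1) < 1 := by
  have h1 : 32 ≤ q := by nlinarith
  have h2 : 1 / q ^ 2 ≤ 1 / (q - 1) := by
    refine one_div_le_one_div_of_le (by linarith) ?_
    nlinarith
  have h3 : (5 + 4 * K) / (q - 1) < 1 := by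
    rw [div_lt_one (by linarith)]
    nlinarith
  have h4 : (5 + 4 * K) / (q - 1) = 1 / (q - 1) + 4 / (q - 1) + 4 * K / (q - 1) := by ring
  linarith

theorem num_unipotent {K q v A Y : ℝ} (hK : 4 ≤ K) (hq : q = 2 * (K * K)) (hv : v = q - 2 * K + 1)
    (hA : 4 * Y + 1 = A) (hY : 1 ≤ Y) (hAv : A ≤ 2 * v) :
    1 / q ^ 2 + 4 * q ^ 2 / (K * (q - 1)) ^ 2 + q ^ 2 * A ^ 2 / (Y * ((q - 1) * v) ^ 2) < 1 := by
  have h1 : 32 ≤ q := by nlinarith
  have hv25 : 25 ≤ v := by nlinarith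
  have h8 : q / (q - 1) ≤ 9 / 8 := by rw [div_le_div_iff₀ (by linarith) (by norm_num)]; linarith
  have h8' : (q / (q - 1)) ^ 2 ≤ (9 / 8) ^ 2 := pow_le_pow_left₀ (div_nonneg (by linarith) (by linarith)) h8 2
  have t1 : 1 / q ^ 2 ≤ 1 / 1024 := one_div_le_one_div_of_le (by norm_num) (by nlinarith)
  have t2 : 4 * q ^ 2 / (K * (q - 1)) ^ 2 ≤ 1 / 3 := by
    have e : 4 * q ^ 2 / (K * (q - 1)) ^ 2 = (q / (q - 1)) ^ 2 * (4 / K ^ 2) := by rw [div_pow, mul_pow]; field_simp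
    have h4 : 4 / K ^ 2 ≤ 1 / 4 := by rw [div_le_div_iff₀ (by positivity) (by norm_num)]; nlinarith
    rw [e]
    calc (q / (q - 1)) ^ 2 * (4 / K ^ 2) ≤ (9 / 8) ^ 2 * (1 / 4) := mul_le_mul h8' h4 (by positivity) (by positivity)
      _ ≤ 1 / 3 := by norm_num
  have t3 : q ^ 2 * A ^ 2 / (Y * ((q - 1) * v) ^ 2) ≤ 16 / 25 := by
    have e : q ^ 2 * A ^ 2 / (Y * ((q - 1) * v) ^ 2) = (q / (q - 1)) ^ 2 * (A ^ 2 / (Y * v ^ 2)) := by
      rw [div_pow, mul_pow]; field_simp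
    have hA2 : A ^ 2 / (Y * v ^ 2) ≤ 25 / 2 / v := by
      rw [div_le_div_iff₀ (by positivity) (by linarith)]
      have a1 : A ^ 2 ≤ 25 * Y ^ 2 := by nlinarith
      have a2 : 4 * Y ≤ 2 * v := by linarith
      have a3 : A ^ 2 * v ≤ 25 * Y ^ 2 * v := mul_le_mul_of_nonneg_right a1 (by linarith)
      have a4 : 25 * Y ^ 2 * v ≤ 25 * Y * (v / 2) * v := by
        have : Y ^ 2 ≤ Y * (v / 2) := by nlinarith
        nlinarith
      nlinarith
    rw [e]
    calc (q / (q - 1)) ^ 2 * (A ^ 2 / (Y * v ^ 2)) ≤ (9 / 8) ^ 2 * (25 / 2 / v) :=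
          mul_le_mul h8' hA2 (by positivity) (by positivity)
      _ ≤ (9 / 8) ^ 2 * (25 / 2 / 25) := by
          refine mul_le_mul_of_nonneg_left ?_ (by positivity)
          exact div_le_div_of_nonneg_left (by norm_num) (by norm_num) hv25
      _ ≤ 16 / 25 := by norm_num
  linarith

theorem num_four {K q : ℝ} (hK : 4 ≤ K) (hq : q = 2 * (K * K)) :
    1 / q ^ 2 ≤ 3 / (2 * (K * (q - 1))) ∧ 2 * K / ((q - 1) * (q - 2 * K + 1)) ≤ 3 / (2 * (K * (q - 1))) ∧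
      (2 * q - 1) * (3 / (2 * (K * (q - 1)))) < 1 := by
  have h1 : 32 ≤ q := by nlinarith
  have hv : 25 ≤ q - 2 * K + 1 := by nlinarith
  have hden : 0 < 2 * (K * (q - 1)) := by nlinarith
  refine ⟨?_, ?_, ?_⟩
  · rw [div_le_div_iff₀ (by positivity) hden]
    nlinarith
  · rw [div_le_div_iff₀ (mul_pos (by linarith) (by linarith)) hden]
    have h2 : 4 * (K * K) ≤ 3 * (q - 2 * K + 1) := by nlinarith
    have h3 := mul_le_mul_of_nonneg_right h2 (show 0 ≤ q - 1 by linarith)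
    linarith [h3, show 2 * K * (2 * (K * (q - 1))) = 4 * (K * K) * (q - 1) by ring,
      show 3 * ((q - 1) * (q - 2 * K + 1)) = 3 * (q - 2 * K + 1) * (q - 1) by ring]
  · rw [mul_div_assoc', div_lt_one hden]
    nlinarith

end Real

variable {F : Type*} [Field F] [Fintype F] {m : ℕ} (Q : Par F m)
include Q
variable [Fintype (Cfsg.Sz F m)] {St : Cfsg.IrrCharacter (Cfsg.Sz F m)}
  {X : Finset (Cfsg.IrrCharacter (Cfsg.Sz F m))}

/-- A term of the criterion. -/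
noncomputable def term (_ : Par F m) (x g : Cfsg.Sz F m) (χ : Cfsg.IrrCharacter (Cfsg.Sz F m)) : ℝ :=
  Complex.normSq ((χ : Cfsg.Sz F m → ℂ) x) * ‖(χ : Cfsg.Sz F m → ℂ) g‖ /
    (Cfsg.Lib.Chars.deg (χ : Cfsg.Sz F m → ℂ) : ℝ)

theorem term_le {x g : Cfsg.Sz F m} {χ : Cfsg.IrrCharacter (Cfsg.Sz F m)} {r d : ℝ} (hd : 0 < d)
    (hr : ‖(χ : Cfsg.Sz F m → ℂ) g‖ ≤ r) (hdeg : d ≤ (Cfsg.Lib.Chars.deg (χ : Cfsg.Sz F m → ℂ) : ℝ)) :
    term Q x g χ ≤ Complex.normSq ((χ : Cfsg.Sz F m → ℂ) x) * (r / d) := by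
  rw [term, mul_div_assoc]
  exact mul_le_mul_of_nonneg_left (div_le_div₀ ((norm_nonneg _).trans hr) hr hd hdeg) (Complex.normSq_nonneg _)

open Classical in
/-- The covering conclusion from a bound on the sum. -/
theorem cover_of_sum (hK : Known Q St X) (x g : Cfsg.Sz F m)
    (h : term Q x g St + (∑ χ ∈ X, term Q x g χ + ∑ χ ∈ others Q St X, term Q x g χ) < 1) :
    ∃ u v : Cfsg.Sz F m, g = (u * x * u⁻¹) * (v * x * v⁻¹) := by
  refine exists_two_conj x g ?_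
  rw [← hK.split Q] at h
  exact h

theorem qreal : (8 : ℝ) ≤ ((2 ^ (2 * m + 1) : ℕ) : ℝ) := by exact_mod_cast (q_facts Q).1

theorem Known.deg_big (hK : Known Q St X) {χ : Cfsg.IrrCharacter (Cfsg.Sz F m)} (h : χ = St ∨ χ ∈ X) :
    ((2 ^ (2 * m + 1) : ℕ) : ℝ) ^ 2 ≤ (Cfsg.Lib.Chars.deg (χ : Cfsg.Sz F m → ℂ) : ℝ) := by
  rcases h with rfl | h
  · rw [hK.deg_st Q]; push_cast; exact le_refl _
  · rw [hK.deg_x Q h]; push_cast; linarith

open Classical in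
/-- An element of the split torus covers everything. -/
theorem cover_hI (hK : Known Q St X) {k : Fˣ} (hk : k ≠ 1) {g : Cfsg.Sz F m} (hg : g ≠ 1) :
    ∃ u v : Cfsg.Sz F m, g = (u * hI Q k * u⁻¹) * (v * hI Q k * v⁻¹) := by
  refine cover_of_sum Q hK _ g ?_
  set q : ℝ := ((2 ^ (2 * m + 1) : ℕ) : ℝ) with hq
  have h8 : 8 ≤ q := qreal Q
  have hr : ∀ χ : Cfsg.IrrCharacter (Cfsg.Sz F m), ‖(χ : Cfsg.Sz F m → ℂ) g‖ ≤ q := fun χ =>
    norm_le_of_card Q χ g (by linarith) (by rw [hq]; exact_mod_cast card_tor_le_sq Q hg)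
  have ho : ∀ χ ∈ others Q St X, term Q (hI Q k) g χ = Complex.normSq ((χ : Cfsg.Sz F m → ℂ) (hI Q k)) * (q / q ^ 2) := by
    intro χ hχ
    obtain ⟨h1, h2, h3⟩ := (mem_others Q).1 hχ
    simp [term, hK.vanish χ h1 h2 h3 k hk]
  have hcol := column_le Q (hI Q k)
  rw [hK.split Q, card_tor_hI Q hk, Nat.cast_sub (by have := (q_facts Q).1; omega), ← hq, Nat.cast_one] at hcol
  have hb : ∀ χ, χ = St ∨ χ ∈ X → term Q (hI Q k) g χ ≤
      Complex.normSq ((χ : Cfsg.Sz F m → ℂ) (hI Q k)) * (q / q ^ 2) := fun χ h =>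
    term_le Q (by positivity) (hr χ) (hK.deg_big Q h)
  calc _ ≤ Complex.normSq ((St : Cfsg.Sz F m → ℂ) (hI Q k)) * (q / q ^ 2) +
        (∑ χ ∈ X, Complex.normSq ((χ : Cfsg.Sz F m → ℂ) (hI Q k)) * (q / q ^ 2) +
          ∑ χ ∈ others Q St X, Complex.normSq ((χ : Cfsg.Sz F m → ℂ) (hI Q k)) * (q / q ^ 2)) :=
        add_le_add (hb St (Or.inl rfl)) (add_le_add (Finset.sum_le_sum fun χ hχ => hb χ (Or.inr hχ))
          (Finset.sum_le_sum fun χ hχ => (ho χ hχ).le))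
    _ = (q - 2) * (q / q ^ 2) := by
        rw [← Finset.sum_mul, ← Finset.sum_mul]
        linear_combination (q / q ^ 2) * hcol
    _ < 1 := by
        rw [show q / q ^ 2 = 1 / q by field_simp, mul_one_div, div_lt_one (by linarith)]
        linarith

open Classical in
/-- An element of order four reaches the split torus. -/
theorem cover_four_hI (hK : Known Q St X) {a : F} (ha : a ≠ 0) (b : F) {k : Fˣ} (hk : k ≠ 1) :
    ∃ u v : Cfsg.Sz F m, hI Q k = (u * uu Q a b * u⁻¹) * (v * uu Q a b * v⁻¹) := by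
  refine cover_of_sum Q hK _ _ ?_
  set q : ℝ := ((2 ^ (2 * m + 1) : ℕ) : ℝ) with hq
  have h8 : 8 ≤ q := qreal Q
  have hr : ∀ χ : Cfsg.IrrCharacter (Cfsg.Sz F m), ‖(χ : Cfsg.Sz F m → ℂ) (hI Q k)‖ ≤ q / 2 := fun χ =>
    norm_le_of_card Q χ _ (by linarith) (by
      rw [card_tor_hI Q hk, Nat.cast_sub (by have := (q_facts Q).1; omega), ← hq, Nat.cast_one]
      nlinarith [sq_nonneg (q - 2)])
  have ho : ∀ χ ∈ others Q St X, term Q (uu Q a b) (hI Q k) χ ≤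
      Complex.normSq ((χ : Cfsg.Sz F m → ℂ) (uu Q a b)) * (q / 2 / q ^ 2) := by
    intro χ hχ
    obtain ⟨h1, h2, h3⟩ := (mem_others Q).1 hχ
    simp only [term, hK.vanish χ h1 h2 h3 k hk, norm_zero, mul_zero, zero_div]
    exact mul_nonneg (Complex.normSq_nonneg _) (by positivity)
  have hcol := column_le Q (uu Q a b)
  have hC : (Nat.card (tor (uu Q a b)) : ℝ) ≤ 2 * q := by rw [hq]; exact_mod_cast card_tor_uu Q ha b
  rw [hK.split Q] at hcol
  have hb : ∀ χ, χ = St ∨ χ ∈ X → term Q (uu Q a b) (hI Q k) χ ≤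
      Complex.normSq ((χ : Cfsg.Sz F m → ℂ) (uu Q a b)) * (q / 2 / q ^ 2) := fun χ h =>
    term_le Q (by positivity) (hr χ) (hK.deg_big Q h)
  calc _ ≤ Complex.normSq ((St : Cfsg.Sz F m → ℂ) (uu Q a b)) * (q / 2 / q ^ 2) +
        (∑ χ ∈ X, Complex.normSq ((χ : Cfsg.Sz F m → ℂ) (uu Q a b)) * (q / 2 / q ^ 2) +
          ∑ χ ∈ others Q St X, Complex.normSq ((χ : Cfsg.Sz F m → ℂ) (uu Q a b)) * (q / 2 / q ^ 2)) :=
        add_le_add (hb St (Or.inl rfl)) (add_le_add (Finset.sum_le_sum fun χ hχ => hb χ (Or.inr hχ))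
          (Finset.sum_le_sum ho))
    _ = ((Nat.card (tor (uu Q a b)) : ℝ) - 1) * (q / 2 / q ^ 2) := by
        rw [← Finset.sum_mul, ← Finset.sum_mul]
        linear_combination (q / 2 / q ^ 2) * hcol
    _ ≤ (2 * q - 1) * (q / 2 / q ^ 2) := mul_le_mul_of_nonneg_right (by linarith) (by positivity)
    _ < 1 := by
        rw [show q / 2 / q ^ 2 = 1 / (2 * q) by field_simp, mul_one_div, div_lt_one (by linarith)]
        linarith

open Classical in
/-- A free element reaches the split torus. -/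
theorem cover_free_hI (hK : Known Q St X) {x : Cfsg.Sz F m} (hx : Free Q x) {k : Fˣ} (hk : k ≠ 1) :
    ∃ u v : Cfsg.Sz F m, hI Q k = (u * x * u⁻¹) * (v * x * v⁻¹) := by
  refine cover_of_sum Q hK _ _ ?_
  set q : ℝ := ((2 ^ (2 * m + 1) : ℕ) : ℝ) with hq
  have h8 : 8 ≤ q := qreal Q
  have hr : ∀ χ : Cfsg.IrrCharacter (Cfsg.Sz F m), ‖(χ : Cfsg.Sz F m → ℂ) (hI Q k)‖ ≤ q / 2 := fun χ =>
    norm_le_of_card Q χ _ (by linarith) (by
      rw [card_tor_hI Q hk, Nat.cast_sub (by have := (q_facts Q).1; omega), ← hq, Nat.cast_one]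
      nlinarith [sq_nonneg (q - 2)])
  rw [Finset.sum_eq_zero (s := X) (fun χ hχ => by simp [term, hK.x_free χ hχ x hx]),
    Finset.sum_eq_zero (s := others Q St X) (fun χ hχ => by
      obtain ⟨h1, h2, h3⟩ := (mem_others Q).1 hχ
      simp [term, hK.vanish χ h1 h2 h3 k hk]), add_zero, add_zero]
  refine (term_le Q (d := q ^ 2) (by positivity) (hr St) (hK.deg_big Q (Or.inl rfl))).trans_lt ?_
  rw [hK.st_free x hx, show Complex.normSq (-1 : ℂ) = 1 by simp, one_mul, div_lt_one (by positivity)]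
  nlinarith

theorem reals (hm : 2 ≤ m) : (4 : ℝ) ≤ ((2 ^ m : ℕ) : ℝ) ∧
    ((2 ^ (2 * m + 1) : ℕ) : ℝ) = 2 * (((2 ^ m : ℕ) : ℝ) * ((2 ^ m : ℕ) : ℝ)) ∧
    ((2 ^ (2 * m + 1) - 1 : ℕ) : ℝ) = ((2 ^ (2 * m + 1) : ℕ) : ℝ) - 1 ∧
    ((2 ^ (2 * m + 1) - 2 ^ (m + 1) + 1 : ℕ) : ℝ) =
      ((2 ^ (2 * m + 1) : ℕ) : ℝ) - 2 * ((2 ^ m : ℕ) : ℝ) + 1 ∧
    ∀ g : Cfsg.Sz F m, Free Q g → (Nat.card (tor g) : ℝ) ≤ (2 * ((2 ^ m : ℕ) : ℝ)) ^ 2 ∧
      (Nat.card (tor g) : ℝ) ≤ 2 * (((2 ^ (2 * m + 1) : ℕ) : ℝ) - 2 * ((2 ^ m : ℕ) : ℝ) + 1) := by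
  obtain ⟨h8, hs, hqK, hsK⟩ := q_facts Q
  have hK4 : (4 : ℝ) ≤ ((2 ^ m : ℕ) : ℝ) := by
    have : 4 ≤ 2 ^ m := by
      calc 4 = 2 ^ 2 := rfl
        _ ≤ _ := Nat.pow_le_pow_right two_pos hm
    exact_mod_cast this
  have hq : ((2 ^ (2 * m + 1) : ℕ) : ℝ) = 2 * (((2 ^ m : ℕ) : ℝ) * ((2 ^ m : ℕ) : ℝ)) := by
    exact_mod_cast hqK
  have hsr : ((2 ^ (m + 1) : ℕ) : ℝ) = 2 * ((2 ^ m : ℕ) : ℝ) := by exact_mod_cast hsK
  have hv : ((2 ^ (2 * m + 1) - 2 ^ (m + 1) + 1 : ℕ) : ℝ) =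
      ((2 ^ (2 * m + 1) : ℕ) : ℝ) - 2 * ((2 ^ m : ℕ) : ℝ) + 1 := by
    rw [Nat.cast_add, Nat.cast_sub (by omega), hsr, Nat.cast_one]
  refine ⟨hK4, hq, by rw [Nat.cast_sub (by omega), Nat.cast_one], hv, fun g hg => ?_⟩
  rcases card_tor_free Q hg with h | h
  · rw [h, Nat.cast_add, Nat.cast_add, hsr, Nat.cast_one, hq]
    constructor <;> nlinarith
  · rw [h, hv, hq]
    constructor <;> nlinarith

open Classical in
/-- Fixed-point-free elements reach one another. -/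
theorem cover_free_free (hK : Known Q St X) (hm : 2 ≤ m) {x g : Cfsg.Sz F m} (hx : Free Q x) (hg : Free Q g) :
    ∃ u v : Cfsg.Sz F m, g = (u * x * u⁻¹) * (v * x * v⁻¹) := by
  refine cover_of_sum Q hK _ _ ?_
  obtain ⟨hK4, hqK, hq1, hvr, hC⟩ := reals Q hm
  obtain ⟨Y, hY, hYsub, hYd, hrest⟩ := hK.fam Q hm hx
  set q : ℝ := ((2 ^ (2 * m + 1) : ℕ) : ℝ) with hq
  set K : ℝ := ((2 ^ m : ℕ) : ℝ) with hKdef
  have h8 : 8 ≤ q := qreal Q
  have hv : 25 ≤ q - 2 * K + 1 := by nlinarith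
  have hr : ∀ χ : Cfsg.IrrCharacter (Cfsg.Sz F m), ‖(χ : Cfsg.Sz F m → ℂ) g‖ ≤ 2 * K := fun χ =>
    norm_le_of_card Q χ g (by linarith) (hC g hg).1
  rw [Finset.sum_eq_zero (s := X) (fun χ hχ => by simp [term, hK.x_free χ hχ x hx]), zero_add,
    ← Finset.sum_sdiff hYsub]
  have t1 : term Q x g St ≤ 1 / q ^ 2 := by
    refine (term_le Q (d := q ^ 2) (by positivity) (r := 1) (by simp [hK.st_free g hg])
      (hK.deg_big Q (Or.inl rfl))).trans ?_
    rw [hK.st_free x hx, show Complex.normSq (-1 : ℂ) = 1 by simp, one_mul]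
  have t2 : ∑ χ ∈ others Q St X \ Y, term Q x g χ ≤ 4 / (q - 1) := by
    refine (Finset.sum_le_sum fun χ hχ => term_le Q (r := 2 * K) (d := K * (q - 1)) (mul_pos (by linarith) (by linarith)) (hr χ) ?_).trans ?_
    · rw [hKdef, ← hq1]
      exact_mod_cast hK.deg_others Q (Finset.mem_sdiff.1 hχ).1
    · rw [← Finset.sum_mul]
      refine (mul_le_mul_of_nonneg_right hrest (div_nonneg (by linarith) (mul_nonneg (by linarith) (by linarith)))).trans_eq ?_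
      field_simp
      ring
  have t3 : ∑ χ ∈ Y, term Q x g χ ≤ 4 * K / (q - 1) := by
    refine (Finset.sum_le_sum fun χ hχ => term_le Q (r := 2 * K) (d := (q - 1) * (q - 2 * K + 1)) (mul_pos (by linarith) (by linarith)) (hr χ) ?_).trans ?_
    · rw [← hq1, ← hvr]
      exact_mod_cast hYd χ hχ
    · rw [← Finset.sum_mul]
      have hsum : ∑ χ ∈ Y, Complex.normSq ((χ : Cfsg.Sz F m → ℂ) x) ≤ 2 * (q - 2 * K + 1) := by
        refine le_trans ?_ ((normSq_int_column x).le.trans (hC x hx).2)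
        exact Finset.sum_le_sum_of_subset_of_nonneg (Finset.subset_univ Y) fun _ _ _ => Complex.normSq_nonneg _
      refine (mul_le_mul_of_nonneg_right hsum (div_nonneg (by linarith) (mul_nonneg (by linarith) (by linarith)))).trans_eq ?_
      field_simp
      ring
  have := num_free hK4 hqK
  linarith

open Classical in
/-- Fixed-point-free elements reach the elements with one fixed point. -/
theorem cover_free_unipotent (hK : Known Q St X) (hm : 2 ≤ m) {x g : Cfsg.Sz F m} (hx : Free Q x)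
    (hg : ¬ Free Q g) (hg1 : g ≠ 1) : ∃ u v : Cfsg.Sz F m, g = (u * x * u⁻¹) * (v * x * v⁻¹) := by
  refine cover_of_sum Q hK _ _ ?_
  obtain ⟨hK4, hqK, hq1, hvr, hC⟩ := reals Q hm
  obtain ⟨Y, hY, hYsub, hYd, hrest⟩ := hK.fam Q hm hx
  set q : ℝ := ((2 ^ (2 * m + 1) : ℕ) : ℝ) with hq
  set K : ℝ := ((2 ^ m : ℕ) : ℝ) with hKdef
  set v : ℝ := q - 2 * K + 1 with hvdef
  have h8 : 8 ≤ q := qreal Q
  have hv : 25 ≤ v := by rw [hvdef]; nlinarith
  have hY1 : (1 : ℝ) ≤ Y.card := by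
    have : 1 ≤ Y.card := by
      have h4 := hY.card
      have h5 := (card_tor Q hx).2.1
      omega
    exact_mod_cast this
  have hA : 4 * (Y.card : ℝ) + 1 = (Nat.card (tor x) : ℝ) := by exact_mod_cast hY.card
  have hnum := num_unipotent hK4 hqK hvdef hA hY1 (hC x hx).2
  set A : ℝ := (Nat.card (tor x) : ℝ) with hAdef
  let n : Cfsg.IrrCharacter (Cfsg.Sz F m) → ℝ := fun χ => Complex.normSq ((χ : Cfsg.Sz F m → ℂ) g)
  have hn : ∀ χ : Cfsg.IrrCharacter (Cfsg.Sz F m), ‖(χ : Cfsg.Sz F m → ℂ) g‖ ^ 2 ≤ n χ :=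
    fun χ => (Complex.normSq_eq_norm_sq _).ge
  have hq2 : (0 : ℝ) < q ^ 2 := by positivity
  rw [Finset.sum_eq_zero (s := X) (fun χ hχ => by simp [term, hK.x_free χ hχ x hx]), zero_add,
    ← Finset.sum_sdiff hYsub]
  have t1 : term Q x g St ≤ (1 / q ^ 2 + n St / q ^ 2) / 2 := by
    refine (term_le Q (d := q ^ 2) hq2 le_rfl (hK.deg_big Q (Or.inl rfl))).trans ?_
    rw [hK.st_free x hx, show Complex.normSq (-1 : ℂ) = 1 by simp, one_mul, div_eq_inv_mul]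
    refine (amgm_term (q ^ 2) ((q ^ 2)⁻¹) _ _ hq2 (hn St)).trans_eq ?_
    field_simp
  have t2 : ∑ χ ∈ others Q St X \ Y, term Q x g χ ≤
      (4 * q ^ 2 / (K * (q - 1)) ^ 2 + (∑ χ ∈ others Q St X \ Y, n χ) / q ^ 2) / 2 := by
    have hd : 0 < K * (q - 1) := mul_pos (by linarith) (by linarith)
    have hsq : ∑ χ ∈ others Q St X \ Y, Complex.normSq ((χ : Cfsg.Sz F m → ℂ) x) ^ 2 ≤ 4 := by
      refine (Finset.sum_sq_le_sq_sum_of_nonneg fun _ _ => Complex.normSq_nonneg _).trans ?_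
      calc _ ≤ (2 : ℝ) ^ 2 := pow_le_pow_left₀ (Finset.sum_nonneg fun _ _ => Complex.normSq_nonneg _) hrest 2
        _ = 4 := by norm_num
    calc ∑ χ ∈ others Q St X \ Y, term Q x g χ
        ≤ ∑ χ ∈ others Q St X \ Y,
            (q ^ 2 * (Complex.normSq ((χ : Cfsg.Sz F m → ℂ) x) / (K * (q - 1))) ^ 2 + n χ / q ^ 2) / 2 := by
          refine Finset.sum_le_sum fun χ hχ => ?_
          refine (term_le Q (d := K * (q - 1)) hd le_rfl ?_).trans ?_
          · rw [hKdef, ← hq1]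
            exact_mod_cast hK.deg_others Q (Finset.mem_sdiff.1 hχ).1
          · refine le_trans (le_of_eq ?_) (amgm_term (q ^ 2) _ _ _ hq2 (hn χ))
            field_simp
      _ = (q ^ 2 / (K * (q - 1)) ^ 2 * ∑ χ ∈ others Q St X \ Y, Complex.normSq ((χ : Cfsg.Sz F m → ℂ) x) ^ 2 +
            (∑ χ ∈ others Q St X \ Y, n χ) / q ^ 2) / 2 := by
          rw [Finset.mul_sum, Finset.sum_div, ← Finset.sum_add_distrib, Finset.sum_div]
          refine Finset.sum_congr rfl fun χ _ => ?_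
          field_simp
      _ ≤ _ := by
          have h' := mul_le_mul_of_nonneg_left hsq (show 0 ≤ q ^ 2 / (K * (q - 1)) ^ 2 by positivity)
          rw [show 4 * q ^ 2 / (K * (q - 1)) ^ 2 = q ^ 2 / (K * (q - 1)) ^ 2 * 4 by ring]
          linarith
  have t3 : ∑ χ ∈ Y, term Q x g χ ≤
      (q ^ 2 * A ^ 2 / ((Y.card : ℝ) * ((q - 1) * v) ^ 2) + (∑ χ ∈ Y, n χ) / q ^ 2) / 2 := by
    have hd : 0 < (q - 1) * v := mul_pos (by linarith) (by linarith)
    obtain ⟨y, hy⟩ : Y.Nonempty := Finset.card_pos.1 (by exact_mod_cast (show (0 : ℝ) < Y.card by linarith))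
    have hsame : ∀ χ ∈ Y, (χ : Cfsg.Sz F m → ℂ) g = (y : Cfsg.Sz F m → ℂ) g := fun χ hχ =>
      hY.same χ hχ y hy g fun z hz => by
        by_contra h1
        refine hg ?_
        have h2 := free_conj Q z (hY.free _ hz h1)
        rwa [show z * (z⁻¹ * g * z) * z⁻¹ = g by group] at h2
    have hsum : ∑ χ ∈ Y, Complex.normSq ((χ : Cfsg.Sz F m → ℂ) x) ≤ A := by
      refine le_trans ?_ (normSq_int_column x).le
      exact Finset.sum_le_sum_of_subset_of_nonneg (Finset.subset_univ Y) fun _ _ _ => Complex.normSq_nonneg _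
    have hny : ∑ χ ∈ Y, n χ = (Y.card : ℝ) * n y := by
      rw [Finset.sum_congr rfl (g := fun _ => n y) fun χ hχ => by show Complex.normSq _ = _; rw [hsame χ hχ],
        Finset.sum_const, nsmul_eq_mul]
    calc ∑ χ ∈ Y, term Q x g χ
        ≤ ∑ χ ∈ Y, Complex.normSq ((χ : Cfsg.Sz F m → ℂ) x) * (‖(y : Cfsg.Sz F m → ℂ) g‖ / ((q - 1) * v)) := by
          refine Finset.sum_le_sum fun χ hχ => term_le Q hd (by rw [hsame χ hχ]) ?_
          rw [← hq1, ← hvr]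
          exact_mod_cast hYd χ hχ
      _ ≤ A * (‖(y : Cfsg.Sz F m → ℂ) g‖ / ((q - 1) * v)) := by
          rw [← Finset.sum_mul]
          exact mul_le_mul_of_nonneg_right hsum (div_nonneg (norm_nonneg _) hd.le)
      _ ≤ _ := by
          rw [hny]
          have h := amgm_term (q ^ 2 / (Y.card : ℝ)) (A / ((q - 1) * v)) _ _ (by positivity) (hn y)
          refine le_trans (le_of_eq ?_) (h.trans_eq ?_)
          · field_simp
          · field_simp
  have htot : n St + ((∑ χ ∈ others Q St X \ Y, n χ) + ∑ χ ∈ Y, n χ) ≤ q ^ 2 := by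
    rw [Finset.sum_sdiff hYsub]
    have h := column_le Q g
    rw [hK.split Q] at h
    have hX : 0 ≤ ∑ χ ∈ X, n χ := Finset.sum_nonneg fun _ _ => Complex.normSq_nonneg _
    have hC' : (Nat.card (tor g) : ℝ) ≤ q ^ 2 := by rw [hq]; exact_mod_cast card_tor_le_sq Q hg1
    simp only [n] at hX ⊢
    linarith
  have hdiv : n St / q ^ 2 + (∑ χ ∈ others Q St X \ Y, n χ) / q ^ 2 + (∑ χ ∈ Y, n χ) / q ^ 2 ≤ 1 := by
    rw [← add_div, ← add_div, div_le_one hq2]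
    linarith
  linarith

open Classical in
/-- An element of order four reaches the fixed-point-free elements. -/
theorem cover_four_free (hK : Known Q St X) (hm : 2 ≤ m) {a : F} (ha : a ≠ 0) (b : F) {g : Cfsg.Sz F m}
    (hg : Free Q g) : ∃ u v : Cfsg.Sz F m, g = (u * uu Q a b * u⁻¹) * (v * uu Q a b * v⁻¹) := by
  refine cover_of_sum Q hK _ _ ?_
  obtain ⟨hK4, hqK, hq1, hvr, hC⟩ := reals Q hm
  obtain ⟨Y, hY, hYsub, hYd, hrest⟩ := hK.fam Q hm hg
  set q : ℝ := ((2 ^ (2 * m + 1) : ℕ) : ℝ) with hq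
  set K : ℝ := ((2 ^ m : ℕ) : ℝ) with hKdef
  obtain ⟨hc1, hc2, hc3⟩ := num_four hK4 hqK
  have h8 : 8 ≤ q := qreal Q
  have hv : 25 ≤ q - 2 * K + 1 := by nlinarith
  set c : ℝ := 3 / (2 * (K * (q - 1))) with hcdef
  have hc0 : 0 ≤ c := le_trans (by positivity) hc1
  set x := uu Q a b
  have hb : ∀ χ : Cfsg.IrrCharacter (Cfsg.Sz F m), χ ≠ Cfsg.Lib.Chars.principal (Cfsg.Sz F m) →
      term Q x g χ ≤ Complex.normSq ((χ : Cfsg.Sz F m → ℂ) x) * c := by
    intro χ hχ1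
    by_cases hSt : χ = St
    · subst hSt
      refine (term_le Q (d := q ^ 2) (by positivity) (r := 1) (by simp [hK.st_free g hg])
        (hK.deg_big Q (Or.inl rfl))).trans (mul_le_mul_of_nonneg_left hc1 (Complex.normSq_nonneg _))
    by_cases hX : χ ∈ X
    · simp only [term, hK.x_free χ hX g hg, norm_zero, mul_zero, zero_div]
      exact mul_nonneg (Complex.normSq_nonneg _) hc0
    have ho : χ ∈ others Q St X := (mem_others Q).2 ⟨hX, hSt, hχ1⟩
    by_cases hYm : χ ∈ Y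
    · refine (term_le Q (d := (q - 1) * (q - 2 * K + 1)) (mul_pos (by linarith) (by linarith))
        (norm_le_of_card Q χ g (by linarith) (hC g hg).1) ?_).trans
          (mul_le_mul_of_nonneg_left hc2 (Complex.normSq_nonneg _))
      rw [← hq1, ← hvr]
      exact_mod_cast hYd χ hYm
    · have hn : ‖(χ : Cfsg.Sz F m → ℂ) g‖ ≤ 3 / 2 := by
        refine (sq_le_sq₀ (norm_nonneg _) (by norm_num)).1 ?_
        rw [← Complex.normSq_eq_norm_sq]
        refine le_trans ((Finset.single_le_sum (f := fun ψ : Cfsg.IrrCharacter (Cfsg.Sz F m) =>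
          Complex.normSq ((ψ : Cfsg.Sz F m → ℂ) g)) (fun _ _ => Complex.normSq_nonneg _)
          (Finset.mem_sdiff.2 ⟨ho, hYm⟩)).trans hrest) ?_
        norm_num
      refine (term_le Q (d := K * (q - 1)) (mul_pos (by linarith) (by linarith)) hn ?_).trans_eq ?_
      · rw [hKdef, ← hq1]
        exact_mod_cast hK.deg_others Q ho
      · rw [hcdef, div_div]
  rw [← hK.split Q]
  refine (Finset.sum_le_sum fun χ hχ => hb χ (Finset.mem_erase.1 hχ).1).trans_lt ?_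
  rw [← Finset.sum_mul]
  have hcol := column_le Q x
  have hC' : (Nat.card (tor x) : ℝ) ≤ 2 * q := by rw [hq]; exact_mod_cast card_tor_uu Q ha b
  refine lt_of_le_of_lt (mul_le_mul_of_nonneg_right ?_ hc0) hc3
  linarith

end Cfsg.Lib.Suz.Cover
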