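import Mathlib.Data.Fintype.Prod
import Mathlib.Data.Fintype.Basic
import Mathlib.Data.Fintype.Pi
import Mathlib.Logic.Equiv.Bool

/-! Coded arithmetic for the Suzuki group over the field with eight elements, with witnesses. -/

set_option autoImplicit false

namespace Cfsg.Lib.Suz.Cover.Eight

/-- The field with eight elements, as bit triples over a root of `X ^ 3 + X + 1`. -/
abbrev Code := Bool × Bool × Bool

/-- The code of a number below eight. -/
def cd (n : Nat) : Code := (n % 2 == 1, n / 2 % 2 == 1, n / 4 % 2 == 1)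

/-- Addition. -/
def cadd (x y : Code) : Code := (x.1 ^^ y.1, x.2.1 ^^ y.2.1, x.2.2 ^^ y.2.2)

/-- Multiplication. -/
def cmul (x y : Code) : Code :=
  match x, y with
  | (a0, a1, a2), (b0, b1, b2) =>
    (((a0 && b0) ^^ (a1 && b2)) ^^ (a2 && b1),
      ((((a0 && b1) ^^ (a1 && b0)) ^^ (a1 && b2)) ^^ (a2 && b1)) ^^ (a2 && b2),
      (((a0 && b2) ^^ (a1 && b1)) ^^ (a2 && b0)) ^^ (a2 && b2))

/-- Powers. -/
def cpow (x : Code) : Nat → Code
  | 0 => cd 1
  | n + 1 => cmul (cpow x n) x

/-- Rows. -/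
abbrev Row := Code × Code × Code × Code

/-- Matrices. -/
abbrev Mat4 := Row × Row × Row × Row

/-- Equality of rows is decidable. -/
instance rowEq : DecidableEq Row := instDecidableEqProd

/-- Equality of matrices is decidable. -/
instance mat4Eq : DecidableEq Mat4 := instDecidableEqProd

/-- A row times a matrix. -/
def rmul (r : Row) (B : Mat4) : Row :=
  match r, B with
  | (a, b, c, d), ((e0, e1, e2, e3), (f0, f1, f2, f3), (g0, g1, g2, g3), (h0, h1, h2, h3)) =>
    (cadd (cadd (cadd (cmul a e0) (cmul b f0)) (cmul c g0)) (cmul d h0),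
      cadd (cadd (cadd (cmul a e1) (cmul b f1)) (cmul c g1)) (cmul d h1),
      cadd (cadd (cadd (cmul a e2) (cmul b f2)) (cmul c g2)) (cmul d h2),
      cadd (cadd (cadd (cmul a e3) (cmul b f3)) (cmul c g3)) (cmul d h3))

/-- The product of matrices. -/
def mmul (A B : Mat4) : Mat4 := (rmul A.1 B, rmul A.2.1 B, rmul A.2.2.1 B, rmul A.2.2.2 B)

/-- The identity. -/
def one4 : Mat4 :=
  ((cd 1, cd 0, cd 0, cd 0), (cd 0, cd 1, cd 0, cd 0), (cd 0, cd 0, cd 1, cd 0), (cd 0, cd 0, cd 0, cd 1))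

/-- The generators. -/
inductive Gen
  | T (a b : Nat)
  | H (k : Nat)
  | W

/-- The number of a code. -/
def num (x : Code) : Nat :=
  (if x.1 then 1 else 0) + (if x.2.1 then 2 else 0) + (if x.2.2 then 4 else 0)

/-- The matrix of a generator. -/
def gmat : Gen → Mat4
  | .T a b =>
    ((cd 1, cd a, cadd (cd b) (cpow (cd a) 5),
        cadd (cadd (cmul (cd a) (cd b)) (cpow (cd a) 6)) (cpow (cd b) 4)),
      (cd 0, cd 1, cpow (cd a) 4, cd b), (cd 0, cd 0, cd 1, cd a), (cd 0, cd 0, cd 0, cd 1))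
  | .H k =>
    if cd k = cd 0 then one4 else
    ((cpow (cd k) 3, cd 0, cd 0, cd 0), (cd 0, cpow (cd k) 2, cd 0, cd 0),
      (cd 0, cd 0, cpow (cd k) 5, cd 0), (cd 0, cd 0, cd 0, cpow (cd k) 4))
  | .W =>
    ((cd 0, cd 0, cd 0, cd 1), (cd 0, cd 0, cd 1, cd 0), (cd 0, cd 1, cd 0, cd 0), (cd 1, cd 0, cd 0, cd 0))

/-- The inverse generator. -/
def ginv : Gen → Gen
  | .T a b => .T a (num (cadd (cd b) (cpow (cd a) 5)))
  | .H k => .H (num (cpow (cd k) 6))
  | .W => .W

/-- The inverse word. -/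
def winv (w : List Gen) : List Gen := (w.map ginv).reverse

/-- The matrix of a word. -/
def wmat : List Gen → Mat4
  | [] => one4
  | g :: w => mmul (gmat g) (wmat w)

/-- A word for a power. -/
def wpow (w : List Gen) : Nat → List Gen
  | 0 => []
  | n + 1 => w ++ wpow w n

/-- The representative of order thirteen. -/
def x0 : List Gen := [.W, .T 0 3]

/-- The representative of order five. -/
def y0 : List Gen := [.W, .T 0 1]

/-- Conjugators for the products from the fixed-point-free classes. -/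
def covF : List (List (List Gen × List Gen)) := [
    [([.T 5 0, .H 5], [.T 0 7]),
      ([], []),
      ([.W], [.T 4 1]),
      ([.T 1 0], [.W]),
      ([.W, .T 1 5], [.H 6, .W, .T 7 7]),
      ([.W, .T 3 3], [.T 5 2, .H 3]),
      ([.W, .T 3 0], [.T 4 1, .H 3])],
    [([.W], [.T 4 2]),
      ([.W, .T 0 2], [.T 1 0]),
      ([], []),
      ([.H 4], [.T 1 4, .H 4]),
      ([.W, .T 2 4], [.T 1 3, .W, .T 2 4]),
      ([.W, .T 2 4], [.T 2 0, .H 2]),
      ([.W, .T 2 7], [.T 3 0, .H 2])],
    [([.T 4 1], [.T 4 1]),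
      ([.W], [.T 4 2]),
      ([.T 3 6], [.T 6 0, .H 2]),
      ([.T 7 5, .H 5], [.T 3 2, .H 7]),
      ([.W, .T 2 1], [.T 1 3, .W, .T 2 1]),
      ([.W, .T 2 2], [.T 7 2]),
      ([.W, .T 2 1], [.T 6 6])],
    [([.T 1 6, .H 6], [.T 2 4]),
      ([], [.T 0 2]),
      ([.T 0 3], [.T 4 3]),
      ([.W], [.T 1 0]),
      ([.H 2, .W, .T 0 2], [.T 1 2, .H 2, .W, .T 0 2]),
      ([.W, .T 0 3], [.T 2 6, .W, .T 3 5]),
      ([.W, .T 0 2], [.T 3 4, .W, .T 3 4])]]

/-- Conjugators for the products from the classes of order four. -/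
def covU : List (List (List Gen × List Gen)) := [
    [([.T 0 7, .H 6, .W], [.H 3, .W, .T 2 0]),
      ([.H 5], [.T 1 4, .H 4, .W, .T 4 0]),
      ([.T 3 5, .W, .T 2 0], [.T 7 3, .W]),
      ([.H 2], [.T 5 6, .H 6, .W, .T 4 0])],
    [([.T 0 4, .H 6, .W], [.T 7 3, .H 5, .W]),
      ([.H 5], [.T 4 4, .H 4, .W, .T 4 0]),
      ([.T 3 6, .W, .T 2 0], [.T 7 3, .W]),
      ([.H 2], [.T 7 4, .H 6, .W, .T 4 0])]]

/-- Conjugators from the powers of `x0` to representatives. -/
def rep13 : List (ℕ × List Gen) := [(0, []),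
  (0, []),
  (1, []),
  (1, [.T 4 2]),
  (2, []),
  (0, [.T 4 1]),
  (2, [.T 4 2]),
  (2, [.T 4 1]),
  (0, [.T 4 2]),
  (2, [.W]),
  (1, [.T 4 1]),
  (1, [.W]),
  (0, [.W])]

/-- Conjugators from the powers of `y0` to `y0`. -/
def rep5 : List (List Gen) := [[],
  [],
  [.T 1 0],
  [.T 1 1],
  [.W]]

/-- Representatives of the fixed-point-free classes. -/
def freeReps : List (List Gen) := [x0, wpow x0 2, wpow x0 4, y0]

/-- Representatives of the classes of the unipotent subgroup. -/
def uReps : List (List Gen) := [[.T 0 1], [.T 1 0], [.T 1 1]]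

/-- A table entry. -/
def entry (t : List (List (List Gen × List Gen))) (i j : Nat) : List Gen × List Gen :=
  (t.getD i []).getD j ([], [])

/-- The checked equation for a product of two conjugates. -/
def good (x g : List Gen) (p : List Gen × List Gen) : Bool :=
  decide (wmat (p.1 ++ x ++ winv p.1 ++ (p.2 ++ x ++ winv p.2)) = wmat g)

theorem covF_good : ∀ i : Fin 4, ∀ j : Fin 7,
    good (freeReps.getD i.val []) ((freeReps ++ uReps).getD j.val []) (entry covF i.val j.val) = true := by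
  decide +kernel

theorem covU_good : ∀ i : Fin 2, ∀ j : Fin 4,
    good (uReps.getD (i.val + 1) []) (freeReps.getD j.val []) (entry covU i.val j.val) = true := by
  decide +kernel

theorem rep13_good : ∀ i : Fin 12,
    (decide ((rep13.getD (i.val + 1) (0, [])).1 < 3) &&
      decide (wmat ((rep13.getD (i.val + 1) (0, [])).2 ++ freeReps.getD (rep13.getD (i.val + 1) (0, [])).1 [] ++
        winv (rep13.getD (i.val + 1) (0, [])).2) = wmat (wpow x0 (i.val + 1)))) = true := by
  decide +kernel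

theorem rep5_good : ∀ i : Fin 4,
    decide (wmat (rep5.getD (i.val + 1) [] ++ y0 ++ winv (rep5.getD (i.val + 1) [])) = wmat (wpow y0 (i.val + 1))) = true := by
  decide +kernel

theorem reps_order : (decide (wmat (wpow x0 13) = one4) && decide (wmat x0 ≠ one4) &&
    decide (wmat (wpow y0 5) = one4) && decide (wmat y0 ≠ one4)) = true := by
  decide +kernel

theorem code_facts : (∀ n : Fin 8, num (cd n.val) = n.val) ∧ (∀ x : Code, cd (num x) = x) ∧
    (∀ x : Code, x ≠ cd 0 → cpow x 7 = cd 1) := by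
  decide +kernel

end Cfsg.Lib.Suz.Cover.Eight
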