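import Cfsg.Agent.Suz.Cover.Data
import Cfsg.Agent.Suz.Cover.Unipotent
import Cfsg.Agent.Suz.Cover.EightData

/-! The Suzuki group over the field with eight elements: the remaining products of two conjugates. -/

set_option autoImplicit false
set_option linter.unusedSectionVars false

namespace Cfsg.Lib.Suz.Cover.Eight

variable {F : Type*} [Field F] [Fintype F] (Q : Par F 1)
include Q

theorem two_zero : (2 : F) = 0 := by
  have := charP Q
  exact CharP.cast_eq_zero F 2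

theorem exists_root : ∃ r : F, r ^ 3 = r + 1 := by
  classical
  have h2 := two_zero Q
  obtain ⟨α, hα⟩ : ∃ α : F, α ∉ ({0, 1} : Finset F) := by
    by_contra h
    push Not at h
    have := (Finset.card_le_card fun x (_ : x ∈ Finset.univ) => h x).trans Finset.card_le_two
    rw [Finset.card_univ, Q.hF] at this
    norm_num at this
  simp only [Finset.mem_insert, Finset.mem_singleton, not_or] at hα
  have h7 : α ^ 7 = 1 := by
    have h := FiniteField.pow_card_sub_one_eq_one α hα.1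
    rwa [Q.hF] at h
  have hne : α + 1 ≠ 0 := fun h => hα.2 ((eq_neg_of_add_eq_zero_left h).trans (neg_eq Q 1))
  have hp : ((α ^ 3 + α + 1) * (α ^ 3 + α ^ 2 + 1)) * (α + 1) = 0 := by
    linear_combination h7 + (α ^ 6 + α ^ 5 + 2 * α ^ 4 + 2 * α ^ 3 + α ^ 2 + α + 1) * h2
  rcases mul_eq_zero.1 ((mul_eq_zero.1 hp).resolve_right hne) with h | h
  · exact ⟨α, by linear_combination h - (α + 1) * h2⟩
  · refine ⟨α⁻¹, ?_⟩
    have ha := hα.1
    field_simp
    linear_combination -h + (1 : F) * h2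

omit Q in
/-- The image of a bit. -/
def bit (b : Bool) : F := if b then 1 else 0

omit Q in
/-- The field element of a code. -/
def dec (r : F) (x : Code) : F := bit x.1 + bit x.2.1 * r + bit x.2.2 * r ^ 2

theorem bit_xor (a b : Bool) : (bit (a ^^ b) : F) = bit a + bit b := by
  cases a <;> cases b <;> simp [bit, add_self Q]

theorem bit_and (a b : Bool) : (bit (a && b) : F) = bit a * bit b := by
  cases a <;> cases b <;> simp [bit]

theorem dec_add (r : F) (x y : Code) : dec r (cadd x y) = dec r x + dec r y := by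
  obtain ⟨a0, a1, a2⟩ := x
  obtain ⟨b0, b1, b2⟩ := y
  simp only [dec, cadd, bit_xor Q]
  ring

theorem dec_mul {r : F} (hr : r ^ 3 = r + 1) (x y : Code) : dec r (cmul x y) = dec r x * dec r y := by
  obtain ⟨a0, a1, a2⟩ := x
  obtain ⟨b0, b1, b2⟩ := y
  simp only [dec, cmul, bit_xor Q, bit_and Q]
  linear_combination -(bit a1 * bit b2 + bit a2 * bit b1 + bit a2 * bit b2 * r) * hr

theorem dec_zero (r : F) : dec r (cd 0) = 0 := by simp [dec, cd, bit]

theorem dec_one (r : F) : dec r (cd 1) = 1 := by simp [dec, cd, bit]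

theorem dec_pow {r : F} (hr : r ^ 3 = r + 1) (x : Code) (n : ℕ) : dec r (cpow x n) = dec r x ^ n := by
  induction n with
  | zero => rw [cpow, dec_one Q, pow_zero]
  | succ n ih => rw [cpow, dec_mul Q hr, ih, pow_succ]

theorem dec_inj {r : F} (hr : r ^ 3 = r + 1) {x y : Code} (h : dec r x = dec r y) : x = y := by
  have h0 : dec r (cadd x y) = 0 := by rw [dec_add Q, h, add_self Q]
  by_contra hne
  have hc : cadd x y ≠ cd 0 := by
    obtain ⟨a0, a1, a2⟩ := x
    obtain ⟨b0, b1, b2⟩ := y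
    revert hne
    clear h0 h
    revert a0 a1 a2 b0 b1 b2
    decide
  have h7 := congrArg (dec r) (code_facts.2.2 _ hc)
  rw [dec_pow Q hr, h0, dec_one Q, zero_pow (by norm_num)] at h7
  exact zero_ne_one h7

omit Q in
/-- The matrix of a coded matrix. -/
def toMat (r : F) (A : Mat4) : Matrix (Fin 4) (Fin 4) F :=
  !![dec r A.1.1, dec r A.1.2.1, dec r A.1.2.2.1, dec r A.1.2.2.2;
    dec r A.2.1.1, dec r A.2.1.2.1, dec r A.2.1.2.2.1, dec r A.2.1.2.2.2;
    dec r A.2.2.1.1, dec r A.2.2.1.2.1, dec r A.2.2.1.2.2.1, dec r A.2.2.1.2.2.2;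
    dec r A.2.2.2.1, dec r A.2.2.2.2.1, dec r A.2.2.2.2.2.1, dec r A.2.2.2.2.2.2]

theorem toMat_one (r : F) : toMat r one4 = 1 := by
  ext i j
  fin_cases i <;> fin_cases j <;> simp [toMat, one4, dec_one Q, dec_zero Q]

theorem toMat_mul {r : F} (hr : r ^ 3 = r + 1) (A B : Mat4) : toMat r (mmul A B) = toMat r A * toMat r B := by
  obtain ⟨⟨a, b, c, d⟩, ⟨a', b', c', d'⟩, ⟨p, q, u, v⟩, ⟨p', q', u', v'⟩⟩ := A
  ext i j
  fin_cases i <;> fin_cases j <;>
    simp [toMat, mmul, rmul, Matrix.mul_apply, Fin.sum_univ_four, dec_add Q, dec_mul Q hr, add_assoc]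

theorem toMat_inj {r : F} (hr : r ^ 3 = r + 1) {A B : Mat4} (h : toMat r A = toMat r B) : A = B := by
  have e := fun i j => congrFun (congrFun h i) j
  obtain ⟨⟨a, b, c, d⟩, ⟨a', b', c', d'⟩, ⟨p, q, u, v⟩, ⟨p', q', u', v'⟩⟩ := A
  exact Prod.ext (Prod.ext (dec_inj Q hr (e 0 0)) (Prod.ext (dec_inj Q hr (e 0 1)) (Prod.ext (dec_inj Q hr (e 0 2)) (dec_inj Q hr (e 0 3)))))
    (Prod.ext (Prod.ext (dec_inj Q hr (e 1 0)) (Prod.ext (dec_inj Q hr (e 1 1)) (Prod.ext (dec_inj Q hr (e 1 2)) (dec_inj Q hr (e 1 3)))))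
      (Prod.ext (Prod.ext (dec_inj Q hr (e 2 0)) (Prod.ext (dec_inj Q hr (e 2 1)) (Prod.ext (dec_inj Q hr (e 2 2)) (dec_inj Q hr (e 2 3)))))
        (Prod.ext (dec_inj Q hr (e 3 0)) (Prod.ext (dec_inj Q hr (e 3 1)) (Prod.ext (dec_inj Q hr (e 3 2)) (dec_inj Q hr (e 3 3)))))))

open Classical in
/-- The group element of a generator. -/
noncomputable def evG (r : F) : Gen → Cfsg.Sz F 1
  | .T a b => uu Q (dec r (cd a)) (dec r (cd b))
  | .H k => if h : dec r (cd k) = 0 then 1 else hI Q (Units.mk0 _ h)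
  | .W => ⟨W F, W_mem Q⟩

/-- The group element of a word. -/
noncomputable def ev (r : F) (w : List Gen) : Cfsg.Sz F 1 := (w.map (evG Q r)).prod

theorem coe_evG {r : F} (hr : r ^ 3 = r + 1) (g : Gen) : (evG Q r g).1.1 = toMat r (gmat g) := by
  cases g with
  | T a b =>
    show Tmat 1 (dec r (cd a)) (dec r (cd b)) = _
    ext i j
    fin_cases i <;> fin_cases j <;>
      simp [Tmat, fn, toMat, gmat, dec_one Q, dec_zero Q, dec_add Q, dec_mul Q hr, dec_pow Q hr]
  | H k =>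
    by_cases h : dec r (cd k) = 0
    · have hk : cd k = cd 0 := dec_inj Q hr (by rw [h, dec_zero Q])
      simp only [evG, dif_pos h, gmat, if_pos hk, toMat_one Q]
      rfl
    · have hk : cd k ≠ cd 0 := fun e => h (by rw [e, dec_zero Q])
      have h7 : dec r (cd k) ^ 7 = 1 := by rw [← dec_pow Q hr, code_facts.2.2 _ hk, dec_one Q]
      simp only [evG, dif_neg h, gmat, if_neg hk]
      show (Matrix.diagonal _ : Matrix (Fin 4) (Fin 4) F) = _
      ext i j
      fin_cases i <;> fin_cases j <;>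
        simp [toMat, hh, dec_zero Q, dec_pow Q hr] <;>
        (refine inv_eq_of_mul_eq_one_right ?_; rw [← pow_add]; exact h7)
  | W =>
    show (W F).1 = _
    ext i j
    fin_cases i <;> fin_cases j <;> simp [W, toMat, gmat, dec_one Q, dec_zero Q]

theorem coe_ev {r : F} (hr : r ^ 3 = r + 1) (w : List Gen) : (ev Q r w).1.1 = toMat r (wmat w) := by
  induction w with
  | nil => simp [ev, wmat, toMat_one Q]
  | cons g w ih =>
    rw [wmat, toMat_mul Q hr, ← coe_evG Q hr, ← ih]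
    rfl

theorem ev_append (r : F) (w w' : List Gen) : ev Q r (w ++ w') = ev Q r w * ev Q r w' := by
  simp [ev]

theorem ev_wpow (r : F) (w : List Gen) (n : ℕ) : ev Q r (wpow w n) = ev Q r w ^ n := by
  induction n with
  | zero => simp [wpow, ev]
  | succ n ih => rw [wpow, ev_append, ih, pow_succ']

theorem ev_eq {r : F} (hr : r ^ 3 = r + 1) {w w' : List Gen} (h : wmat w = wmat w') : ev Q r w = ev Q r w' :=
  Subtype.ext (Subtype.ext (by rw [coe_ev Q hr, coe_ev Q hr, h]))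

theorem evG_inv {r : F} (hr : r ^ 3 = r + 1) (g : Gen) : evG Q r (ginv g) = (evG Q r g)⁻¹ := by
  cases g with
  | T a b =>
    refine eq_inv_of_mul_eq_one_left ?_
    simp only [ginv, evG, code_facts.2.1, dec_add Q, dec_pow Q hr]
    rw [uu_mul, ← uu_zero Q]
    congr 1
    · exact add_self Q _
    · linear_combination add_self Q (dec r (cd b)) + add_self Q (dec r (cd a) ^ 5)
  | H k =>
    refine eq_inv_of_mul_eq_one_left ?_
    have e : dec r (cd (num (cpow (cd k) 6))) = dec r (cd k) ^ 6 := by rw [code_facts.2.1, dec_pow Q hr]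
    simp only [ginv, evG]
    by_cases h : dec r (cd k) = 0
    · rw [dif_pos h, dif_pos (by rw [e, h, zero_pow (by norm_num)]), one_mul]
    · rw [dif_neg h, dif_neg (by rw [e]; exact pow_ne_zero _ h)]
      have h7 : dec r (cd k) ^ 7 = 1 := by
        rw [← dec_pow Q hr, code_facts.2.2 _ fun e => h (by rw [e, dec_zero Q]), dec_one Q]
      show hHom Q _ * hHom Q _ = 1
      rw [← map_mul, ← map_one (hHom Q)]
      refine congrArg (hHom Q) (Units.ext ?_)
      rw [Units.val_mul, Units.val_mk0, Units.val_mk0, e, ← pow_succ, h7, Units.val_one]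
  | W =>
    refine eq_inv_of_mul_eq_one_left ?_
    exact Subtype.ext (W_sq Q)

theorem ev_winv {r : F} (hr : r ^ 3 = r + 1) (w : List Gen) : ev Q r (winv w) = (ev Q r w)⁻¹ := by
  induction w with
  | nil => simp [ev, winv]
  | cons g w ih =>
    rw [show winv (g :: w) = winv w ++ [ginv g] by simp [winv], ev_append, ih]
    simp [ev, evG_inv Q hr]

theorem ev_ne_one {r : F} (hr : r ^ 3 = r + 1) {w : List Gen} (h : wmat w ≠ one4) : ev Q r w ≠ 1 := by
  intro he
  refine h (toMat_inj Q hr ?_)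
  rw [← coe_ev Q hr, he, toMat_one Q]
  rfl

theorem of_good {r : F} (hr : r ^ 3 = r + 1) {x g : List Gen} {p : List Gen × List Gen} (h : good x g p = true) :
    ∃ u v : Cfsg.Sz F 1, ev Q r g = (u * ev Q r x * u⁻¹) * (v * ev Q r x * v⁻¹) := by
  refine ⟨ev Q r p.1, ev Q r p.2, ?_⟩
  have h' := ev_eq Q hr (of_decide_eq_true h)
  rw [← h']
  simp only [ev_append, ev_winv Q hr]

theorem card_tor_eight {g : Cfsg.Sz F 1} (hg : Free Q g) : Nat.card (tor g) = 13 ∨ Nat.card (tor g) = 5 := by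
  rcases card_tor_free Q hg with h | h <;> norm_num at h
  · exact Or.inl h
  · exact Or.inr h

theorem rep_data {r : F} (hr : r ^ 3 = r + 1) :
    orderOf (ev Q r x0) = 13 ∧ orderOf (ev Q r y0) = 5 ∧ Free Q (ev Q r x0) ∧ Free Q (ev Q r y0) := by
  have h := reps_order
  simp only [Bool.and_eq_true, decide_eq_true_eq] at h
  obtain ⟨⟨⟨hx, hx1⟩, hy⟩, hy1⟩ := h
  have one4_eq : ev Q r ([] : List Gen) = 1 := by simp [ev]
  have hox : orderOf (ev Q r x0) = 13 := by
    have : Fact (Nat.Prime 13) := ⟨by norm_num⟩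
    refine orderOf_eq_prime ?_ (ev_ne_one Q hr hx1)
    rw [← ev_wpow, ev_eq Q hr (w' := []) hx, one4_eq]
  have hoy : orderOf (ev Q r y0) = 5 := by
    have : Fact (Nat.Prime 5) := ⟨by norm_num⟩
    refine orderOf_eq_prime ?_ (ev_ne_one Q hr hy1)
    rw [← ev_wpow, ev_eq Q hr (w' := []) hy, one4_eq]
  exact ⟨hox, hoy, free_of_dvd Q (by norm_num) hox (by norm_num), free_of_dvd Q (by norm_num) hoy (by norm_num)⟩

theorem exists_pow {w x : Cfsg.Sz F 1} (hw : Free Q w) (hx : Free Q x) (hc : Nat.card (tor x) = Nat.card (tor w))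
    (ho : orderOf w = Nat.card (tor w)) :
    ∃ (c : Cfsg.Sz F 1) (i : ℕ), 0 < i ∧ i < orderOf w ∧ x = c * w ^ i * c⁻¹ := by
  classical
  obtain ⟨c, hcc⟩ := exists_tor_conj Q hx hw hc
  have hmem : c⁻¹ * x * c ∈ tor w := by
    rw [← map_conj_mem, ← hcc]
    exact mem_tor.2 (Commute.refl x)
  have hz : Subgroup.zpowers w = tor w := by
    refine Subgroup.eq_of_le_of_card_ge (Subgroup.zpowers_le.2 (mem_tor.2 (Commute.refl w))) ?_
    rw [Nat.card_zpowers, ho]
  rw [← hz, mem_zpowers_iff_mem_range_orderOf, Finset.mem_image] at hmem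
  obtain ⟨i, hi, hi'⟩ := hmem
  refine ⟨c, i, Nat.pos_of_ne_zero fun h0 => free_ne_one Q hx ?_, Finset.mem_range.1 hi, by rw [hi']; group⟩
  rw [h0, pow_zero] at hi'
  calc x = c * (c⁻¹ * x * c) * c⁻¹ := by group
    _ = 1 := by rw [← hi']; group

/-- Every fixed-point-free element is conjugate to a representative. -/
theorem free_rep {r : F} (hr : r ^ 3 = r + 1) {x : Cfsg.Sz F 1} (hx : Free Q x) :
    ∃ (c : Cfsg.Sz F 1) (j : Fin 4), x = c * ev Q r (freeReps.getD j.val []) * c⁻¹ := by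
  obtain ⟨hox, hoy, hfx, hfy⟩ := rep_data Q hr
  have hmem : ∀ w : Cfsg.Sz F 1, orderOf w ∣ Nat.card (tor w) := fun w =>
    Subgroup.orderOf_dvd_natCard _ (mem_tor.2 (Commute.refl w))
  have h13 : Nat.card (tor (ev Q r x0)) = 13 := by
    have h := hox ▸ hmem (ev Q r x0)
    rcases card_tor_eight Q hfx with e | e <;> rw [e] at h ⊢
    norm_num at h
  have h5 : Nat.card (tor (ev Q r y0)) = 5 := by
    have h := hoy ▸ hmem (ev Q r y0)
    rcases card_tor_eight Q hfy with e | e <;> rw [e] at h ⊢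
    norm_num at h
  rcases card_tor_eight Q hx with h | h
  · obtain ⟨c, i, hi0, hi, rfl⟩ := exists_pow Q hfx hx (h.trans h13.symm) (hox.trans h13.symm)
    rw [hox] at hi
    obtain ⟨k, rfl⟩ : ∃ k, i = k + 1 := ⟨i - 1, by omega⟩
    have hg := rep13_good ⟨k, by omega⟩
    simp only [Bool.and_eq_true, decide_eq_true_eq] at hg
    refine ⟨c * ev Q r (rep13.getD (k + 1) (0, [])).2, ⟨(rep13.getD (k + 1) (0, [])).1, by omega⟩, ?_⟩
    have h' := ev_eq Q hr hg.2
    simp only [ev_append, ev_winv Q hr, ev_wpow] at h'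
    rw [← h']
    group
  · obtain ⟨c, i, hi0, hi, rfl⟩ := exists_pow Q hfy hx (h.trans h5.symm) (hoy.trans h5.symm)
    rw [hoy] at hi
    obtain ⟨k, rfl⟩ : ∃ k, i = k + 1 := ⟨i - 1, by omega⟩
    have hg := of_decide_eq_true (rep5_good ⟨k, by omega⟩)
    refine ⟨c * ev Q r (rep5.getD (k + 1) []), 3, ?_⟩
    have h' := ev_eq Q hr hg
    simp only [ev_append, ev_winv Q hr, ev_wpow] at h'
    rw [← h', show freeReps.getD (3 : Fin 4).val [] = y0 from rfl]
    group

theorem ev_uRep (r : F) : ev Q r [Gen.T 0 1] = uu Q 0 1 ∧ ev Q r [Gen.T 1 0] = uu Q 1 0 ∧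
    ev Q r [Gen.T 1 1] = uu Q 1 1 := by
  simp [ev, evG, dec_zero Q, dec_one Q]

/-- Every non-identity element of the unipotent subgroup is conjugate to a representative. -/
theorem u_rep {r : F} {g : Cfsg.Sz F 1} (hg : g ∈ uSub Q) (hg1 : g ≠ 1) :
    ∃ (c : Cfsg.Sz F 1) (j : Fin 3), g = c * ev Q r (uReps.getD j.val []) * c⁻¹ := by
  obtain ⟨e01, e10, e11⟩ := ev_uRep Q r
  obtain ⟨a, b, rfl⟩ := exists_uu Q hg
  rcases eq_or_ne a 0 with rfl | ha
  · obtain ⟨c, hc⟩ := conj_involution Q (one_ne_zero (α := F)) (show b ≠ 0 from fun h => hg1 (by rw [h, uu_zero]))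
    refine ⟨c, 0, ?_⟩
    show uu Q 0 b = c * ev Q r [Gen.T 0 1] * c⁻¹
    rw [e01, hc]
  · obtain ⟨c, b', hb', hc⟩ := normal_form Q ha b
    rcases hb' with rfl | rfl
    · refine ⟨c⁻¹, 1, ?_⟩
      show uu Q a b = c⁻¹ * ev Q r [Gen.T 1 0] * c⁻¹⁻¹
      rw [e10, ← hc]; group
    · refine ⟨c⁻¹, 2, ?_⟩
      show uu Q a b = c⁻¹ * ev Q r [Gen.T 1 1] * c⁻¹⁻¹
      rw [e11, ← hc]; group

theorem transport {x g x' g' : Cfsg.Sz F 1} {c d : Cfsg.Sz F 1} (hx : x = c * x' * c⁻¹) (hg : g = d * g' * d⁻¹)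
    (h : ∃ u v : Cfsg.Sz F 1, g' = (u * x' * u⁻¹) * (v * x' * v⁻¹)) :
    ∃ u v : Cfsg.Sz F 1, g = (u * x * u⁻¹) * (v * x * v⁻¹) := by
  obtain ⟨u, v, rfl⟩ := h
  exact ⟨d * u * c⁻¹, d * v * c⁻¹, by rw [hg, hx]; group⟩

/-- Products of two conjugates of a fixed-point-free element. -/
theorem cover_free {x g : Cfsg.Sz F 1} (hx : Free Q x) (hg : Free Q g ∨ ∃ d, d * g * d⁻¹ ∈ uSub Q)
    (hg1 : g ≠ 1) : ∃ u v : Cfsg.Sz F 1, g = (u * x * u⁻¹) * (v * x * v⁻¹) := by
  obtain ⟨r, hr⟩ := exists_root Q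
  obtain ⟨c, i, hi⟩ := free_rep Q hr hx
  rcases hg with hg | ⟨d0, hd0⟩
  · obtain ⟨d, j, hj⟩ := free_rep Q hr hg
    refine transport Q hi hj ?_
    have h := covF_good i ⟨j.val, by omega⟩
    rw [show (freeReps ++ uReps).getD j.val [] = freeReps.getD j.val [] by fin_cases j <;> rfl] at h
    exact of_good Q hr h
  · obtain ⟨d, j, hj⟩ := u_rep Q (r := r) hd0 (fun h => hg1 (by rwa [mul_inv_eq_one, mul_eq_left] at h))
    refine transport Q hi (show g = (d0⁻¹ * d) * ev Q r (uReps.getD j.val []) * (d0⁻¹ * d)⁻¹ from ?_) ?_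
    · rw [show g = d0⁻¹ * (d0 * g * d0⁻¹) * d0 by group, hj]
      group
    · have h := covF_good i ⟨j.val + 4, by omega⟩
      rw [show (freeReps ++ uReps).getD (j.val + 4) [] = uReps.getD j.val [] by fin_cases j <;> rfl] at h
      exact of_good Q hr h

/-- Products of two conjugates of an element of order four. -/
theorem cover_four {a : F} (ha : a ≠ 0) (b : F) {g : Cfsg.Sz F 1} (hg : Free Q g) :
    ∃ u v : Cfsg.Sz F 1, g = (u * uu Q a b * u⁻¹) * (v * uu Q a b * v⁻¹) := by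
  obtain ⟨r, hr⟩ := exists_root Q
  obtain ⟨d, j, hj⟩ := free_rep Q hr hg
  obtain ⟨c, b', hb', hc⟩ := normal_form Q ha b
  obtain ⟨-, e10, e11⟩ := ev_uRep Q r
  rcases hb' with rfl | rfl
  · refine transport Q (show uu Q a b = c⁻¹ * ev Q r [Gen.T 1 0] * c⁻¹⁻¹ from ?_) hj (of_good Q hr (covU_good 0 j))
    rw [e10, ← hc]; group
  · refine transport Q (show uu Q a b = c⁻¹ * ev Q r [Gen.T 1 1] * c⁻¹⁻¹ from ?_) hj (of_good Q hr (covU_good 1 j))
    rw [e11, ← hc]; group

end Cfsg.Lib.Suz.Cover.Eight
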