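import Cfsg.Agent.Suz.CharDegrees

/-! Centraliser bounds and the character data attached to a fixed-point-free element. -/

set_option autoImplicit false
set_option linter.unusedSectionVars false
set_option linter.style.haveILetI false

open scoped ComplexConjugate

namespace Cfsg.Lib.Suz.Cover

variable {F : Type*} [Field F] [Fintype F] {m : ℕ} (Q : Par F m)
include Q

theorem card_tor_conj (c g : Cfsg.Sz F m) : Nat.card (tor (c * g * c⁻¹)) = Nat.card (tor g) := by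
  rw [show tor (c * g * c⁻¹) = (tor g).map (MulAut.conj c).toMonoidHom from
    (map_conj_centralizer g c).symm, Subgroup.card_map_of_injective (MulAut.conj c).injective]

theorem q_facts : 8 ≤ 2 ^ (2 * m + 1) ∧ 2 * 2 ^ (m + 1) ≤ 2 ^ (2 * m + 1) ∧
    2 ^ (2 * m + 1) = 2 * (2 ^ m * 2 ^ m) ∧ 2 ^ (m + 1) = 2 * 2 ^ m := by
  have hm := Q.hm
  refine ⟨?_, ?_, ?_, pow_succ' 2 m⟩
  · calc 8 = 2 ^ (2 * 1 + 1) := rfl
      _ ≤ _ := Nat.pow_le_pow_right two_pos (by omega)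
  · rw [← pow_succ']
    exact Nat.pow_le_pow_right two_pos (by omega)
  · rw [← pow_add, ← pow_succ', two_mul]

theorem card_tor_free {g : Cfsg.Sz F m} (hg : Free Q g) :
    Nat.card (tor g) = 2 ^ (2 * m + 1) + 2 ^ (m + 1) + 1 ∨
      Nat.card (tor g) = 2 ^ (2 * m + 1) - 2 ^ (m + 1) + 1 := by
  obtain ⟨-, -, -, -, -, -, -, -, hall⟩ := two_tori Q
  exact hall g hg

theorem card_tor_hI {k : Fˣ} (hk : k ≠ 1) : Nat.card (tor (hI Q k)) = 2 ^ (2 * m + 1) - 1 := by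
  rw [cent_hI_eq Q hk, (range_data Q).2]

theorem card_tor_le_sq {g : Cfsg.Sz F m} (hg : g ≠ 1) :
    Nat.card (tor g) ≤ (2 ^ (2 * m + 1)) ^ 2 := by
  obtain ⟨h8, hs, -, -⟩ := q_facts Q
  have hq : 2 * 2 ^ (2 * m + 1) ≤ (2 ^ (2 * m + 1)) ^ 2 := by rw [sq]; exact Nat.mul_le_mul_right _ (by omega)
  rcases elt_split Q hg with ⟨c, hc⟩ | ⟨c, k, hk, e⟩ | hf
  · rw [← card_tor_conj Q c g, ← card_uSub Q]
    have hle : tor (c * g * c⁻¹) ≤ uSub Q := fun y hy =>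
      cent_uu Q hc (fun h => hg (by rwa [mul_inv_eq_one, mul_eq_left] at h)) (mem_tor.1 hy)
    exact Nat.le_of_dvd Nat.card_pos (Subgroup.card_dvd_of_le hle)
  · rw [← card_tor_conj Q c g, e, card_tor_hI Q hk]
    omega
  · rcases card_tor_free Q hf with h | h <;> omega

theorem card_tor_uu {a : F} (ha : a ≠ 0) (b : F) : Nat.card (tor (uu Q a b)) ≤ 2 * 2 ^ (2 * m + 1) := by
  classical
  have hx1 : uu Q a b ≠ 1 := fun h => ha (uu_inj Q (h.trans (uu_zero Q).symm)).1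
  have hmem : ∀ y : tor (uu Q a b), ∃ p : Bool × F, y.1 = uu Q (if p.1 then a else 0) p.2 := by
    intro y
    have hc := mem_tor.1 y.2
    obtain ⟨c, d, e⟩ := exists_uu Q (cent_uu Q (uu_mem Q a b) hx1 hc)
    have h := hc.eq
    rw [e, uu_mul, uu_mul] at h
    have h2 := (uu_inj Q h).2
    have h3 : c ^ (2 ^ (m + 1)) * a = a ^ (2 ^ (m + 1)) * c := by linear_combination h2
    rcases eq_or_ne c 0 with rfl | hc0
    · exact ⟨(false, d), by simpa using e⟩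
    · refine ⟨(true, d), ?_⟩
      have hca : c / a = 1 := by
        refine (s_fixed Q ?_).resolve_left (div_ne_zero hc0 ha)
        rw [div_pow, div_eq_div_iff (pow_ne_zero _ ha) ha, h3, mul_comm]
      rw [div_eq_one_iff_eq ha] at hca
      simpa [hca] using e
  choose f hf using hmem
  refine (Nat.card_le_card_of_injective f fun y y' h => Subtype.ext ?_).trans ?_
  · rw [hf y, hf y', h]
  · rw [Nat.card_prod, Nat.card_eq_fintype_card, Nat.card_eq_fintype_card, Fintype.card_bool, Q.hF]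

theorem exists_tor_conj {g a : Cfsg.Sz F m} (hg : Free Q g) (ha : Free Q a)
    (he : Nat.card (tor g) = Nat.card (tor a)) :
    ∃ c : Cfsg.Sz F m, tor g = (tor a).map (MulAut.conj c).toMonoidHom := by
  obtain ⟨p, hp, h1⟩ := Nat.exists_prime_and_dvd (n := Nat.card (tor a))
    (by have := (card_tor Q ha).2.1; omega)
  have h2 : p ∣ Nat.card (tor g) := he ▸ h1
  have : Fact p.Prime := ⟨hp⟩
  obtain ⟨P, hP⟩ := tor_sylow Q ha hp h1
  obtain ⟨P', hP'⟩ := tor_sylow Q hg hp h2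
  obtain ⟨c, hc⟩ := MulAction.exists_smul_eq (Cfsg.Sz F m) P P'
  have : Nontrivial (P : Subgroup (Cfsg.Sz F m)) := by
    rw [← Finite.one_lt_card_iff_nontrivial]
    have hpG : p ∣ Nat.card (Cfsg.Sz F m) := h1.trans (Subgroup.card_subgroup_dvd_card _)
    exact hp.one_lt.trans_le (Nat.le_of_dvd Nat.card_pos (P.dvd_card_of_dvd_card hpG))
  obtain ⟨y, hy⟩ := exists_ne (1 : (P : Subgroup (Cfsg.Sz F m)))
  have hy1 : (y : Cfsg.Sz F m) ≠ 1 := fun h => hy (Subtype.ext h)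
  have hmem : c * y.1 * c⁻¹ ∈ (P' : Subgroup (Cfsg.Sz F m)) := by
    rw [← hc]
    exact ⟨y.1, y.2, rfl⟩
  refine ⟨c, ?_⟩
  rw [← ((tor_spec Q hg).2.1 _ (hP' hmem) (fun h => hy1 (by rwa [mul_inv_eq_one, mul_eq_left] at h))).2,
    ← ((tor_spec Q ha).2.1 _ (hP y.2) hy1).2]
  exact (map_conj_centralizer _ _).symm

theorem card_normalizer_free {g : Cfsg.Sz F m} (hg : Free Q g) :
    Nat.card (Subgroup.normalizer (tor g : Set (Cfsg.Sz F m))) = 4 * Nat.card (tor g) := by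
  obtain ⟨a, b, ha, hb, ea, eb, na, nb, hall⟩ := two_tori Q
  have key : ∀ r, Free Q r → Nat.card (tor g) = Nat.card (tor r) →
      Nat.card (Subgroup.normalizer (tor r : Set (Cfsg.Sz F m))) = 4 * Nat.card (tor r) →
      Nat.card (Subgroup.normalizer (tor g : Set (Cfsg.Sz F m))) = 4 * Nat.card (tor g) := by
    intro r hr he hn
    obtain ⟨c, hc⟩ := exists_tor_conj Q hg hr he
    rw [he, hc, ← hn, show Subgroup.normalizer (((tor r).map (MulAut.conj c).toMonoidHom : Subgroup (Cfsg.Sz F m)) :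
      Set (Cfsg.Sz F m)) = (Subgroup.normalizer (tor r : Set (Cfsg.Sz F m))).map (MulAut.conj c).toMonoidHom from
      (Subgroup.map_equiv_normalizer_eq _ _).symm, Subgroup.card_map_of_injective (MulAut.conj c).injective]
  rcases hall g hg with h | h
  · exact key a ha (by omega) na
  · exact key b hb (by omega) nb

/-- The known characters. -/
structure Known [Fintype (Cfsg.Sz F m)] (St : Cfsg.IrrCharacter (Cfsg.Sz F m))
    (X : Finset (Cfsg.IrrCharacter (Cfsg.Sz F m))) : Prop where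
  st_one : (St : Cfsg.Sz F m → ℂ) 1 = ((2 ^ (2 * m + 1)) ^ 2 : ℕ)
  st_free : ∀ g, Free Q g → (St : Cfsg.Sz F m → ℂ) g = -1
  x_one : ∀ χ ∈ X, (χ : Cfsg.Sz F m → ℂ) 1 = ((2 ^ (2 * m + 1)) ^ 2 + 1 : ℕ)
  x_free : ∀ χ ∈ X, ∀ g, Free Q g → (χ : Cfsg.Sz F m → ℂ) g = 0
  vanish : ∀ χ, χ ∉ X → χ ≠ St → χ ≠ Cfsg.Lib.Chars.principal (Cfsg.Sz F m) →
    ∀ k : Fˣ, k ≠ 1 → (χ : Cfsg.Sz F m → ℂ) (hI Q k) = 0

theorem exists_knownData [Fintype (Cfsg.Sz F m)] : ∃ St X, Known Q St X := by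
  obtain ⟨St, X, h1, h2, -, h4, h5, h6⟩ := exists_known Q
  exact ⟨St, X, h1, h2, h4, h5, h6⟩

open Classical in
/-- The characters other than the principal, Steinberg and principal series ones. -/
noncomputable def others [Fintype (Cfsg.Sz F m)] (_ : Par F m) (St : Cfsg.IrrCharacter (Cfsg.Sz F m))
    (X : Finset (Cfsg.IrrCharacter (Cfsg.Sz F m))) : Finset (Cfsg.IrrCharacter (Cfsg.Sz F m)) :=
  (((Finset.univ : Finset (Cfsg.IrrCharacter (Cfsg.Sz F m))).erase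
    (Cfsg.Lib.Chars.principal (Cfsg.Sz F m))).erase St) \ X

variable [Fintype (Cfsg.Sz F m)] {St : Cfsg.IrrCharacter (Cfsg.Sz F m)}
  {X : Finset (Cfsg.IrrCharacter (Cfsg.Sz F m))}

theorem mem_others {χ : Cfsg.IrrCharacter (Cfsg.Sz F m)} : χ ∈ others Q St X ↔
    χ ∉ X ∧ χ ≠ St ∧ χ ≠ Cfsg.Lib.Chars.principal (Cfsg.Sz F m) := by
  classical
  simp only [others, Finset.mem_sdiff, Finset.mem_erase, Finset.mem_univ, and_true]
  tauto

theorem Known.deg_st (hK : Known Q St X) :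
    Cfsg.Lib.Chars.deg (St : Cfsg.Sz F m → ℂ) = (2 ^ (2 * m + 1)) ^ 2 := by
  have h := hK.st_one
  rw [Cfsg.Lib.Chars.irr_apply_one_eq_deg] at h
  exact_mod_cast h

theorem Known.deg_x (hK : Known Q St X) {χ : Cfsg.IrrCharacter (Cfsg.Sz F m)} (hχ : χ ∈ X) :
    Cfsg.Lib.Chars.deg (χ : Cfsg.Sz F m → ℂ) = (2 ^ (2 * m + 1)) ^ 2 + 1 := by
  have h := hK.x_one χ hχ
  rw [Cfsg.Lib.Chars.irr_apply_one_eq_deg] at h
  exact_mod_cast h

open Classical in
theorem Known.split (hK : Known Q St X) (f : Cfsg.IrrCharacter (Cfsg.Sz F m) → ℝ) :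
    ∑ χ ∈ (Finset.univ : Finset (Cfsg.IrrCharacter (Cfsg.Sz F m))).erase
        (Cfsg.Lib.Chars.principal (Cfsg.Sz F m)), f χ =
      f St + (∑ χ ∈ X, f χ + ∑ χ ∈ others Q St X, f χ) := by
  have h1 : Cfsg.Lib.Chars.deg (Cfsg.Lib.Chars.principal (Cfsg.Sz F m) : Cfsg.Sz F m → ℂ) = 1 := by
    have h : ((Cfsg.Lib.Chars.deg (Cfsg.Lib.Chars.principal (Cfsg.Sz F m) : Cfsg.Sz F m → ℂ) : ℕ) : ℂ) = 1 := by
      rw [← Cfsg.Lib.Chars.irr_apply_one_eq_deg]; rfl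
    exact_mod_cast h
  have h8 := (q_facts Q).1
  have hpos : 1 < (2 ^ (2 * m + 1)) ^ 2 := Nat.one_lt_pow two_ne_zero (by omega)
  have h1St : St ≠ Cfsg.Lib.Chars.principal (Cfsg.Sz F m) := fun h => by
    have := hK.deg_st Q
    rw [h, h1] at this
    omega
  rw [← Finset.add_sum_erase _ _ (Finset.mem_erase.2 ⟨h1St, Finset.mem_univ St⟩), others]
  congr 1
  rw [add_comm, Finset.sum_sdiff]
  intro χ hχ
  refine Finset.mem_erase.2 ⟨fun e => ?_, Finset.mem_erase.2 ⟨fun e => ?_, Finset.mem_univ _⟩⟩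
  · have h2 := hK.deg_x Q hχ
    rw [e, hK.deg_st Q] at h2
    omega
  · have h2 := hK.deg_x Q hχ
    rw [e, h1] at h2
    omega

open Classical in
theorem column_le (g : Cfsg.Sz F m) :
    ∑ χ ∈ (Finset.univ : Finset (Cfsg.IrrCharacter (Cfsg.Sz F m))).erase
        (Cfsg.Lib.Chars.principal (Cfsg.Sz F m)), Complex.normSq ((χ : Cfsg.Sz F m → ℂ) g) + 1 =
      (Nat.card (tor g) : ℝ) := by
  rw [← normSq_int_column g, ← Finset.add_sum_erase Finset.univ _ (Finset.mem_univ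
    (Cfsg.Lib.Chars.principal (Cfsg.Sz F m))), add_comm]
  simp [Cfsg.Lib.Chars.principal]

theorem norm_le_of_card (χ : Cfsg.IrrCharacter (Cfsg.Sz F m)) (g : Cfsg.Sz F m) {r : ℝ} (hr : 0 ≤ r)
    (h : (Nat.card (tor g) : ℝ) ≤ r ^ 2) : ‖(χ : Cfsg.Sz F m → ℂ) g‖ ≤ r := by
  refine (sq_le_sq₀ (norm_nonneg _) hr).1 ?_
  rw [← Complex.normSq_eq_norm_sq]
  refine le_trans ?_ ((normSq_int_column g).le.trans h)
  exact Finset.single_le_sum (f := fun ψ : Cfsg.IrrCharacter (Cfsg.Sz F m) => Complex.normSq ((ψ : Cfsg.Sz F m → ℂ) g))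
    (fun _ _ => Complex.normSq_nonneg _) (Finset.mem_univ χ)

theorem Known.dvd_deg (hK : Known Q St X) {χ : Cfsg.IrrCharacter (Cfsg.Sz F m)} (hχ : χ ∈ others Q St X) :
    2 ^ (2 * m + 1) - 1 ∣ Cfsg.Lib.Chars.deg (χ : Cfsg.Sz F m → ℂ) := by
  obtain ⟨h1, h2, h3⟩ := (mem_others Q).1 hχ
  rw [← (range_data Q).2]
  refine dvd_deg_of_vanish _ ?_ ?_ (Cfsg.Lib.Chars.isCharacter_of_irr χ.2) ?_
  · rintro _ ⟨x, rfl⟩ _ ⟨y, rfl⟩
    rw [← map_mul, ← map_mul, mul_comm]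
  · intro h
    have h' := (range_data Q).2
    rw [h, Subgroup.card_bot] at h'
    have := (q_facts Q).1
    omega
  · rintro _ ⟨k, rfl⟩ hk
    exact hK.vanish χ h1 h2 h3 k fun e => hk (by rw [e, map_one])

theorem Known.deg_others (hK : Known Q St X) {χ : Cfsg.IrrCharacter (Cfsg.Sz F m)} (hχ : χ ∈ others Q St X) :
    2 ^ m * (2 ^ (2 * m + 1) - 1) ≤ Cfsg.Lib.Chars.deg (χ : Cfsg.Sz F m → ℂ) := by
  refine irr_min_degree Q χ ?_
  have h := Nat.le_of_dvd (Cfsg.Lib.Chars.deg_irr_pos χ) (hK.dvd_deg Q hχ)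
  have := (q_facts Q).1
  omega

open Classical in
/-- The data of the family attached to a fixed-point-free element. -/
theorem Known.fam (hK : Known Q St X) (hm : 2 ≤ m) {x : Cfsg.Sz F m} (hx : Free Q x) :
    ∃ Y, TorusFam Q (tor x) Y ∧ Y ⊆ others Q St X ∧
      (∀ χ ∈ Y, (2 ^ (2 * m + 1) - 1) * (2 ^ (2 * m + 1) - 2 ^ (m + 1) + 1) ≤
        Cfsg.Lib.Chars.deg (χ : Cfsg.Sz F m → ℂ)) ∧
      ∑ χ ∈ others Q St X \ Y, Complex.normSq ((χ : Cfsg.Sz F m → ℂ) x) ≤ 2 := by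
  obtain ⟨h8, hsq, hqK, hsK⟩ := q_facts Q
  have hK4 : 4 ≤ 2 ^ m := by
    calc 4 = 2 ^ 2 := rfl
      _ ≤ _ := Nat.pow_le_pow_right two_pos hm
  set q := 2 ^ (2 * m + 1) with hq
  set s := 2 ^ (m + 1) with hs
  have h25 : 25 ≤ q - s + 1 := by
    rw [hqK, hsK]
    obtain ⟨r, hr⟩ : ∃ r, 2 ^ m = r + 4 := ⟨2 ^ m - 4, by omega⟩
    rw [hr]
    have : 2 * (r + 4) + 24 ≤ 2 * ((r + 4) * (r + 4)) := by nlinarith
    omega
  have hN := fun g (hg : Free Q g) => card_normalizer_free Q hg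
  have h9 : ∀ g, Free Q g → 25 ≤ Nat.card (tor g) := fun g hg => by
    rcases card_tor_free Q hg with h | h <;> omega
  have hsub : ∀ {A : Subgroup (Cfsg.Sz F m)} {Y : Finset (Cfsg.IrrCharacter (Cfsg.Sz F m))},
      TorusFam Q A Y → Y ⊆ others Q St X := by
    intro A Y hY χ hχ
    refine (mem_others Q).2 ⟨fun h => ?_, fun h => ?_, fun h => ?_⟩
    · obtain ⟨y, hy, hy1, hne⟩ := hY.nonconst χ hχ 0
      exact hne (hK.x_free χ h y (hY.free y hy hy1))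
    · obtain ⟨y, hy, hy1, hne⟩ := hY.nonconst χ hχ (-1)
      exact hne (h ▸ hK.st_free y (hY.free y hy hy1))
    · obtain ⟨y, hy, hy1, hne⟩ := hY.nonconst χ hχ 1
      exact hne (by rw [h]; rfl)
  have hrest : ∀ {A : Subgroup (Cfsg.Sz F m)} {Y : Finset (Cfsg.IrrCharacter (Cfsg.Sz F m))},
      TorusFam Q A Y → ∀ y ∈ A, y ≠ 1 →
        ∑ χ ∈ others Q St X \ Y, Complex.normSq ((χ : Cfsg.Sz F m → ℂ) y) ≤ 2 := by
    intro A Y hY y hy hy1
    have h1 := column_le Q y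
    rw [hK.split Q, show tor y = A from hY.cent y hy hy1, ← Finset.sum_sdiff (hsub hY),
      hK.st_free y (hY.free y hy hy1),
      Finset.sum_eq_zero (s := X) fun χ hχ => by rw [hK.x_free χ hχ y (hY.free y hy hy1), map_zero],
      show Complex.normSq (-1 : ℂ) = 1 by simp] at h1
    have h2 := hY.column y hy hy1
    linarith
  obtain ⟨Y, hY⟩ := exists_torusFam Q hx (hN x hx) (by have := h9 x hx; omega)
  refine ⟨Y, hY, hsub hY, ?_, hrest hY x (mem_tor.2 (Commute.refl x)) (free_ne_one Q hx)⟩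
  -- the other torus
  obtain ⟨a, b, ha, hb, ea, eb, -, -, -⟩ := two_tori Q
  obtain ⟨z, hz, hne, hzc⟩ : ∃ z, Free Q z ∧ Nat.card (tor x) ≠ Nat.card (tor z) ∧
      q - s + 1 ≤ Nat.card (tor z) := by
    rcases card_tor_free Q hx with h | h
    · exact ⟨b, hb, by omega, by omega⟩
    · exact ⟨a, ha, by omega, by omega⟩
  obtain ⟨Z, hZ⟩ := exists_torusFam Q hz (hN z hz) (by have := h9 z hz; omega)
  have h3 : 3 ≤ Y.card := by have := hY.card; have := h9 x hx; omega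
  have hagree : ∀ χ ∈ Y, ∀ χ' ∈ Y, ∀ y ∈ tor z, y ≠ 1 →
      (χ : Cfsg.Sz F m → ℂ) y = (χ' : Cfsg.Sz F m → ℂ) y := fun χ hχ χ' hχ' y hy hy1 =>
    hY.same χ hχ χ' hχ' y fun g hg => not_mem_of_card_ne (tor x) hY.cent
      (by rw [hZ.cent y hy hy1]; exact hne.symm) g hg
  have hdisj : ∀ χ ∈ Y, χ ∉ Z := by
    intro χ hχ hχZ
    have hall : ∀ χ' ∈ Y, χ' ∈ Z := by
      intro χ' hχ'
      by_contra hn
      obtain ⟨c, hc⟩ := hZ.outside χ' hn
      obtain ⟨y, hy, hy1, hne'⟩ := hZ.nonconst χ hχZ c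
      exact hne' ((hagree χ hχ χ' hχ' y hy hy1).trans (hc y hy hy1))
    obtain ⟨χ', hχ', hne'⟩ := Finset.exists_mem_ne (show 1 < Y.card by omega) χ
    obtain ⟨y, hy, hy1, hne''⟩ := hZ.distinct χ' (hall χ' hχ') χ hχZ hne'
    exact hne'' (hagree χ' hχ' χ hχ y hy hy1)
  intro χ hχ
  have hdvd : Nat.card (tor z) ∣ Cfsg.Lib.Chars.deg (χ : Cfsg.Sz F m → ℂ) := by
    refine dvd_deg_of_vanish _ (fun u hu v hv => (Cfsg.Lib.Chars.AbelianTI.setting hZ.cent).central u hu v hv)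
      (fun hb' => ?_) (Cfsg.Lib.Chars.isCharacter_of_irr χ.2) fun y hy hy1 => ?_
    · have := h9 z hz
      rw [hb', Subgroup.card_bot] at this
      omega
    obtain ⟨c, hc⟩ := hZ.outside χ (hdisj χ hχ)
    have h1 : ((Y.card : ℤ) * (c * c) : ℤ) ≤ (2 : ℤ) := by
      have h := (Finset.sum_le_sum_of_subset_of_nonneg (f := fun χ : Cfsg.IrrCharacter (Cfsg.Sz F m) =>
        Complex.normSq ((χ : Cfsg.Sz F m → ℂ) y)) (fun χ' hχ' => Finset.mem_sdiff.2
          ⟨hsub hY hχ', hdisj χ' hχ'⟩) fun _ _ _ => Complex.normSq_nonneg _).trans (hrest hZ y hy hy1)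
      rw [Finset.sum_congr rfl (g := fun _ => ((c * c : ℤ) : ℝ)) fun χ' hχ' => by
        rw [hagree χ' hχ' χ hχ y hy hy1, hc y hy hy1, ← Complex.ofReal_intCast, Complex.normSq_ofReal]
        push_cast; rfl, Finset.sum_const, nsmul_eq_mul] at h
      exact_mod_cast h
    have hc0 : c = 0 := by
      by_contra hc0
      have := one_le_sq hc0
      have := mul_le_mul (show (3 : ℤ) ≤ Y.card by exact_mod_cast h3) this zero_le_one (by omega)
      linarith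
    rw [hc y hy hy1, hc0]; simp
  have hcop : Nat.Coprime (q - 1) (Nat.card (tor z)) := by
    refine Nat.Coprime.coprime_dvd_right (card_tor Q hz).1 ?_
    exact (Nat.Coprime.coprime_dvd_right (Dvd.intro_left _ rfl) (coprime_orders Q)).symm
  exact le_trans (Nat.mul_le_mul_left _ hzc) (Nat.le_of_dvd (Cfsg.Lib.Chars.deg_irr_pos χ)
    (hcop.mul_dvd_of_dvd_of_dvd (hK.dvd_deg Q (hsub hY hχ)) hdvd))

end Cfsg.Lib.Suz.Cover
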